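import Mathlib.GroupTheory.Transfer
import Mathlib.Algebra.GroupWithZero.Units.Lemmas
import Mathlib.GroupTheory.PGroup
import Mathlib.GroupTheory.GroupAction.Basic

/-!
# Thompson transfer with an extremal conjugate
-/

set_option autoImplicit false
set_option linter.style.haveILetI false

open Subgroup MulAction

namespace Cfsg.Agent.Kondo

variable {G : Type*} [Group G] [Finite G]

theorem transfer_eq_one (hG : ∀ H : Subgroup G, H.Normal → H.index ≠ 2)
    {P : Subgroup G} (φ : P →* ℤˣ) (g : G) : MonoidHom.transfer φ g = 1 := by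
  by_contra h
  have h1 : MonoidHom.transfer φ g = -1 := (Int.units_eq_one_or _).resolve_left h
  refine hG (MonoidHom.transfer φ).ker inferInstance ?_
  rw [Subgroup.index_ker]
  have hs : Function.Surjective (MonoidHom.transfer φ) := by
    intro z
    rcases Int.units_eq_one_or z with rfl | rfl
    · exact ⟨1, map_one _⟩
    · exact ⟨g, h1⟩
  rw [MonoidHom.range_eq_top.mpr hs, Subgroup.card_top, Nat.card_eq_fintype_card]
  rfl

/-- The transfer of an involution is the product over the fixed cosets. -/
theorem transfer_involution {P : Subgroup G} [Fintype (G ⧸ P)] [DecidableEq (G ⧸ P)] (φ : P →* ℤˣ)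
    (u : G) (hu : u * u = 1) (ψ : G ⧸ P → ℤˣ)
    (hψ : ∀ c : G ⧸ P, u • c = c → ∀ hm : c.out⁻¹ * u * c.out ∈ P, ψ c = φ ⟨_, hm⟩) :
    MonoidHom.transfer φ u = ∏ c ∈ Finset.univ.filter (fun c : G ⧸ P => u • c = c), ψ c := by
  classical
  have hfun : ∀ q : G ⧸ P, (↑(q.out) : G ⧸ P) = q := fun q => Quotient.out_eq q
  let T : P.LeftTransversal := ⟨Set.range (fun q : G ⧸ P => q.out), isComplement_range_left hfun⟩
  rw [MonoidHom.transfer_def φ T u]
  have huinv : u⁻¹ = u := inv_eq_of_mul_eq_one_right hu
  have hmem : ∀ q : G ⧸ P, q.out⁻¹ * (u * (u • q).out) ∈ P := by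
    intro q
    rw [← QuotientGroup.eq, hfun]
    have : (↑(u * (u • q).out) : G ⧸ P) = u • ((↑((u • q).out)) : G ⧸ P) := rfl
    rw [this, hfun, smul_smul, hu, one_smul]
  have hterm : leftTransversals.diff φ T (u • T)
      = ∏ q : G ⧸ P, φ ⟨q.out⁻¹ * (u * (u • q).out), hmem q⟩ := by
    unfold leftTransversals.diff
    refine Finset.prod_congr (by ext; simp) (fun q _ => ?_)
    congr 1
    apply Subtype.ext
    dsimp only
    rw [Subgroup.smul_apply_eq_smul_apply_inv_smul, huinv,
      IsComplement.leftQuotientEquiv_apply hfun, IsComplement.leftQuotientEquiv_apply hfun,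
      smul_eq_mul]
  rw [hterm, ← Finset.prod_filter_mul_prod_filter_not Finset.univ (fun c : G ⧸ P => u • c = c)]
  have hrest : ∏ q ∈ Finset.univ.filter (fun c : G ⧸ P => ¬ u • c = c),
      φ ⟨q.out⁻¹ * (u * (u • q).out), hmem q⟩ = 1 := by
    refine Finset.prod_involution (fun q _ => u • q) ?_ ?_ ?_ ?_
    · intro q _
      rw [← map_mul, ← map_one φ]
      congr 1
      apply Subtype.ext
      simp only [Subgroup.coe_mul, Subgroup.coe_one, smul_smul, hu, one_smul]
      calc q.out⁻¹ * (u * (u • q).out) * ((u • q).out⁻¹ * (u * q.out))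
          = q.out⁻¹ * (u * u) * q.out := by group
        _ = 1 := by rw [hu]; group
    · intro q hq _ he
      exact (Finset.mem_filter.mp hq).2 he
    · intro q hq
      refine Finset.mem_filter.mpr ⟨Finset.mem_univ _, fun he => (Finset.mem_filter.mp hq).2 ?_⟩
      rw [smul_smul, hu, one_smul] at he
      exact he.symm
    · intro q _
      rw [smul_smul, hu, one_smul]
  rw [hrest, mul_one]
  refine Finset.prod_congr rfl fun q hq => ?_
  have hq' := (Finset.mem_filter.mp hq).2
  have e : q.out⁻¹ * (u * (u • q).out) = q.out⁻¹ * u * q.out := by rw [hq']; group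
  rw [hψ q hq' (e ▸ hmem q)]
  congr 1
  exact Subtype.ext e

/-- An involution of a Sylow 2-subgroup `P`, outside the kernel of a character `φ` of `P`, has a
conjugate in the kernel whose centralizer in `P` is a largest 2-subgroup of its centralizer. -/
theorem exists_extremal_conj (hG : ∀ H : Subgroup G, H.Normal → H.index ≠ 2) (P : Sylow 2 G)
    (φ : (P : Subgroup G) →* ℤˣ) (u : G) (hu : u * u = 1) :
    ∃ g : G, ∃ hg : g⁻¹ * u * g ∈ (P : Subgroup G), φ ⟨_, hg⟩ = 1 ∧
      ∀ Q : Subgroup G, IsPGroup 2 Q → Q ≤ centralizer {g⁻¹ * u * g} →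
        Nat.card Q ≤ Nat.card ↥((P : Subgroup G) ⊓ centralizer {g⁻¹ * u * g}) := by
  classical
  haveI : Fact (Nat.Prime 2) := ⟨Nat.prime_two⟩
  haveI := Fintype.ofFinite (G ⧸ (P : Subgroup G))
  by_contra hcon
  push Not at hcon
  let C : Subgroup G := centralizer {u}
  have hmem : ∀ c : G ⧸ (P : Subgroup G), u • c = c → c.out⁻¹ * u * c.out ∈ (P : Subgroup G) := by
    intro c hc
    have h1 : (↑(u * c.out) : G ⧸ (P : Subgroup G)) = ↑c.out := by
      rw [show (↑(u * c.out) : G ⧸ (P : Subgroup G)) = u • (↑c.out) from rfl, QuotientGroup.out_eq', hc]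
    have h2 := QuotientGroup.eq.mp h1.symm
    rwa [← mul_assoc] at h2
  let ψ : G ⧸ (P : Subgroup G) → ℤˣ := fun c =>
    if h : u • c = c then φ ⟨_, hmem c h⟩ else 1
  have hprod := transfer_involution φ u hu ψ (fun c hc hm => by simp [ψ, hc])
  rw [transfer_eq_one hG] at hprod
  -- the fixed cosets, as a `C`-set
  have hinv : ∀ (k : C) (c : G ⧸ (P : Subgroup G)), u • c = c → u • ((k : G) • c) = (k : G) • c := by
    intro k c hc
    rw [smul_smul, ← Subgroup.mem_centralizer_singleton_iff.mp k.2, ← smul_smul, hc]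
  have hconst : ∀ (k : C) (c : G ⧸ (P : Subgroup G)) (hc : u • c = c),
      ψ ((k : G) • c) = ψ c := by
    intro k c hc
    simp only [ψ, dif_pos (hinv k c hc), dif_pos hc]
    have h1 : (↑((k : G) • c).out : G ⧸ (P : Subgroup G)) = ↑((k : G) * c.out) := by
      rw [QuotientGroup.out_eq', show (↑((k : G) * c.out) : G ⧸ (P : Subgroup G)) = (k : G) • (↑c.out) from rfl,
        QuotientGroup.out_eq']
    obtain ⟨p, hp⟩ : ∃ p : (P : Subgroup G), ((k : G) • c).out = (k : G) * c.out * p := by
      refine ⟨⟨((k : G) * c.out)⁻¹ * ((k : G) • c).out, QuotientGroup.eq.mp h1.symm⟩, ?_⟩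
      simp [mul_assoc]
    have e : (⟨_, hmem _ (hinv k c hc)⟩ : (P : Subgroup G)) = p⁻¹ * ⟨_, hmem c hc⟩ * p := by
      apply Subtype.ext
      simp only [Subgroup.coe_mul, Subgroup.coe_inv, hp]
      calc ((k : G) * c.out * p)⁻¹ * u * ((k : G) * c.out * p)
          = (p : G)⁻¹ * (c.out⁻¹ * ((k : G)⁻¹ * (u * k)) * c.out) * p := by group
        _ = (p : G)⁻¹ * (c.out⁻¹ * u * c.out) * p := by
          rw [← Subgroup.mem_centralizer_singleton_iff.mp k.2]; group
    rw [e, map_mul, map_mul, map_inv, mul_comm (φ p)⁻¹, mul_assoc, inv_mul_cancel, mul_one]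
  let F : Finset (G ⧸ (P : Subgroup G)) := Finset.univ.filter (fun c => u • c = c)
  let orb : G ⧸ (P : Subgroup G) → Set (G ⧸ (P : Subgroup G)) := fun c => MulAction.orbit C c
  -- on each orbit of `C` the product is `(-1) ^ size`
  have horbit : ∀ c ∈ F, ψ c = 1 → Even (Nat.card (MulAction.orbit C c)) := by
    intro c hcF hψ1
    have hc := (Finset.mem_filter.mp hcF).2
    obtain ⟨Q, hQp, hQC, hQlt⟩ := hcon c.out (hmem c hc) (by simpa [ψ, hc] using hψ1)
    rw [← Nat.not_odd_iff_even]
    intro hodd
    set z := c.out⁻¹ * u * c.out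
    -- the stabilizer of `c` in `C`
    have hstab : Nat.card (MulAction.stabilizer C c) =
        Nat.card ↥((P : Subgroup G) ⊓ centralizer {z}) := by
      have key : ∀ k : G, k • c = c ↔ c.out⁻¹ * k * c.out ∈ (P : Subgroup G) := by
        intro k
        conv_lhs => rw [← Quotient.out_eq c]
        rw [show k • (↑c.out : G ⧸ (P : Subgroup G)) = ↑(k * c.out) from rfl, eq_comm]
        constructor
        · intro h
          have := QuotientGroup.eq.mp h
          rwa [← mul_assoc] at this
        · intro h
          exact QuotientGroup.eq.mpr (by rwa [← mul_assoc])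
      refine Nat.card_congr ⟨fun k => ⟨c.out⁻¹ * ((k : C) : G) * c.out, (key _).mp k.2, ?_⟩,
        fun k => ⟨⟨c.out * (k : G) * c.out⁻¹, ?_⟩, (key _).mpr ?_⟩, ?_, ?_⟩
      · show _ ∈ centralizer ({z} : Set G)
        rw [Subgroup.mem_centralizer_singleton_iff]
        have h := Subgroup.mem_centralizer_singleton_iff.mp (k : C).2
        calc c.out⁻¹ * ((k : C) : G) * c.out * z = c.out⁻¹ * (((k : C) : G) * u) * c.out := by
              simp only [z]; group
          _ = c.out⁻¹ * (u * ((k : C) : G)) * c.out := by rw [h]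
          _ = z * (c.out⁻¹ * ((k : C) : G) * c.out) := by simp only [z]; group
      · rw [Subgroup.mem_centralizer_singleton_iff]
        have h := Subgroup.mem_centralizer_singleton_iff.mp k.2.2
        calc c.out * (k : G) * c.out⁻¹ * u = c.out * ((k : G) * z) * c.out⁻¹ := by
              simp only [z]; group
          _ = c.out * (z * (k : G)) * c.out⁻¹ := by rw [h]
          _ = u * (c.out * (k : G) * c.out⁻¹) := by simp only [z]; group
      · show c.out⁻¹ * (c.out * (k : G) * c.out⁻¹) * c.out ∈ (P : Subgroup G)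
        have : c.out⁻¹ * (c.out * (k : G) * c.out⁻¹) * c.out = k := by group
        rw [this]; exact k.2.1
      · intro k; apply Subtype.ext; apply Subtype.ext
        show c.out * (c.out⁻¹ * ((k : C) : G) * c.out) * c.out⁻¹ = ((k : C) : G)
        group
      · intro k; apply Subtype.ext
        show c.out⁻¹ * (c.out * (k : G) * c.out⁻¹) * c.out = k
        group
    have hcardC : Nat.card (centralizer ({z} : Set G)) = Nat.card C := by
      refine Nat.card_congr ⟨fun k => ⟨c.out * (k : G) * c.out⁻¹, ?_⟩,
        fun k => ⟨c.out⁻¹ * (k : G) * c.out, ?_⟩, fun k => ?_, fun k => ?_⟩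
      · rw [Subgroup.mem_centralizer_singleton_iff]
        have h := Subgroup.mem_centralizer_singleton_iff.mp k.2
        calc c.out * (k : G) * c.out⁻¹ * u = c.out * ((k : G) * z) * c.out⁻¹ := by
              simp only [z]; group
          _ = c.out * (z * (k : G)) * c.out⁻¹ := by rw [h]
          _ = u * (c.out * (k : G) * c.out⁻¹) := by simp only [z]; group
      · rw [Subgroup.mem_centralizer_singleton_iff]
        have h := Subgroup.mem_centralizer_singleton_iff.mp k.2
        calc c.out⁻¹ * (k : G) * c.out * z = c.out⁻¹ * ((k : G) * u) * c.out := by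
              simp only [z]; group
          _ = c.out⁻¹ * (u * (k : G)) * c.out := by rw [h]
          _ = z * (c.out⁻¹ * (k : G) * c.out) := by simp only [z]; group
      · apply Subtype.ext
        show c.out⁻¹ * (c.out * (k : G) * c.out⁻¹) * c.out = k
        group
      · apply Subtype.ext
        show c.out * (c.out⁻¹ * (k : G) * c.out) * c.out⁻¹ = k
        group
    have hmul : Nat.card (MulAction.orbit C c) * Nat.card ↥((P : Subgroup G) ⊓ centralizer {z})
        = Nat.card (centralizer ({z} : Set G)) := by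
      rw [← hstab, hcardC, ← Subgroup.index_mul_card (MulAction.stabilizer C c),
        MulAction.index_stabilizer, Nat.card_coe_set_eq]
    obtain ⟨a, ha⟩ := IsPGroup.iff_card.mp hQp
    have hdvd : Nat.card Q ∣ Nat.card (centralizer ({z} : Set G)) := Subgroup.card_dvd_of_le hQC
    rw [← hmul, ha] at hdvd
    have hcop : Nat.Coprime (2 ^ a) (Nat.card (MulAction.orbit C c)) :=
      (Nat.coprime_two_left.mpr hodd).pow_left a
    have := Nat.le_of_dvd Nat.card_pos (hcop.dvd_of_dvd_mul_left hdvd)
    omega
  have hprod' : ∏ c ∈ F, ψ c = (-1) ^ F.card := by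
    rw [← Finset.prod_fiberwise_of_maps_to (g := orb) (t := F.image orb)
        (fun c hc => Finset.mem_image_of_mem orb hc),
      Finset.card_eq_sum_card_image orb F, ← Finset.prod_pow_eq_pow_sum]
    refine Finset.prod_congr rfl fun o ho => ?_
    obtain ⟨c, hcF, rfl⟩ := Finset.mem_image.mp ho
    have hc := (Finset.mem_filter.mp hcF).2
    have hval : ∀ d ∈ F.filter (fun d => orb d = orb c), ψ d = ψ c := by
      intro d hd
      have hd2 : d ∈ MulAction.orbit C c := by
        have := (Finset.mem_filter.mp hd).2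
        show d ∈ orb c
        rw [← this]; exact MulAction.mem_orbit_self d
      obtain ⟨k, rfl⟩ := hd2
      exact hconst k c hc
    rw [Finset.prod_congr rfl hval, Finset.prod_const]
    have hcard : (F.filter (fun d => orb d = orb c)).card = Nat.card (MulAction.orbit C c) := by
      rw [Nat.card_coe_set_eq, ← Set.ncard_coe_finset]
      congr 1
      ext d
      simp only [Finset.coe_filter, Set.mem_setOf_eq]
      constructor
      · rintro ⟨-, h⟩
        show d ∈ orb c
        rw [← h]; exact MulAction.mem_orbit_self d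
      · intro h
        refine ⟨?_, (MulAction.orbit_eq_iff.mpr h)⟩
        obtain ⟨k, rfl⟩ := h
        exact Finset.mem_filter.mpr ⟨Finset.mem_univ _, hinv k c hc⟩
    rcases Int.units_eq_one_or (ψ c) with h | h
    · have := horbit c hcF h
      rw [h, one_pow, hcard, this.neg_one_pow]
    · rw [h]
  have hFodd : Odd F.card := by
    have hev : Even (Finset.univ.filter (fun c : G ⧸ (P : Subgroup G) => ¬ u • c = c)).card := by
      have h := Finset.prod_involution
        (s := Finset.univ.filter (fun c : G ⧸ (P : Subgroup G) => ¬ u • c = c))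
        (f := fun _ => (-1 : ℤˣ)) (fun q _ => u • q) (fun _ _ => by decide)
        (fun q hq _ he => (Finset.mem_filter.mp hq).2 he)
        (fun q hq => Finset.mem_filter.mpr ⟨Finset.mem_univ _, fun he =>
          (Finset.mem_filter.mp hq).2 (by rw [smul_smul, hu, one_smul] at he; exact he.symm)⟩)
        (fun q _ => by rw [smul_smul, hu, one_smul])
      rw [Finset.prod_const] at h
      by_contra hne
      rw [Nat.not_even_iff_odd] at hne
      rw [hne.neg_one_pow] at h
      exact absurd h (by decide)
    have hsum : F.card + (Finset.univ.filter (fun c : G ⧸ (P : Subgroup G) => ¬ u • c = c)).card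
        = (P : Subgroup G).index := by
      rw [Finset.card_filter_add_card_filter_not, Finset.card_univ, Subgroup.index,
        Nat.card_eq_fintype_card]
    have hidx : Odd (P : Subgroup G).index :=
      Nat.odd_iff.mpr (Nat.two_dvd_ne_zero.mp P.not_dvd_index)
    rw [← hsum] at hidx
    exact (Nat.odd_add.mp hidx).mpr hev
  have heq : (1 : ℤˣ) = -1 := by
    calc (1 : ℤˣ) = ∏ c ∈ F, ψ c := hprod
      _ = (-1) ^ F.card := hprod'
      _ = -1 := hFodd.neg_one_pow
  exact absurd heq (by decide)

end Cfsg.Agent.Kondo
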