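import Cfsg.Agent.Lib.Kondo.Covering
import Mathlib.Algebra.Group.Conj
import Mathlib.GroupTheory.Perm.Sign

/-!
# The number of classes of involutions
-/

set_option autoImplicit false
set_option linter.style.haveILetI false
set_option linter.unusedSectionVars false

namespace Cfsg.Agent.Kondo

open SW

variable {ι : Type} [Fintype ι] [DecidableEq ι]

theorem base_mem_of_max {A : ι → ZMod 2} {R : Subgroup (SW ι)}
    (hR : IsMax2 R (Subgroup.centralizer {base A})) (w : ι → ZMod 2) : base w ∈ R := by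
  let N : Subgroup (SW ι) :=
    { carrier := {x | x.p = 1}
      mul_mem' := by intro a b ha hb; simp only [Set.mem_setOf_eq] at *; simp [ha, hb]
      one_mem' := rfl
      inv_mem' := by intro a ha; simp only [Set.mem_setOf_eq] at *; simp [ha] }
  have hN : N ≤ R := by
    refine hR.le_of_normalized ?_ (isPGroup_of_sq ?_) ?_
    · intro x hx
      rw [Subgroup.mem_centralizer_singleton_iff, eq_base hx, base_mul, base_mul, add_comm]
    · intro x hx
      rw [eq_base hx, base_mul_self]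
    · intro a _ x hx
      show (a * x * a⁻¹).p = 1
      simp [show x.p = 1 from hx]
  exact hN (show (base w).p = 1 from rfl)

theorem eq_one_of_sq {N : Subgroup (SW ι)} (hodd : Odd (Nat.card N)) {n : SW ι} (hn : n ∈ N)
    (hsq : n * n = 1) : n = 1 := by
  have h1 : orderOf n ∣ 2 := orderOf_dvd_of_pow_eq_one (by rw [pow_two, hsq])
  have h2 : orderOf n ∣ Nat.card N := by
    rw [← Subgroup.orderOf_mk n hn]; exact orderOf_dvd_natCard _
  exact orderOf_eq_one_iff.mp
    (Nat.eq_one_of_dvd_coprimes (Nat.coprime_two_left.mpr hodd) h1 h2)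

theorem commute_of_core {H N : Subgroup (SW ι)} (hnorm : ∀ c ∈ H, ∀ n ∈ N, c * n * c⁻¹ ∈ N)
    (hodd : Odd (Nat.card N)) {n b : SW ι} (hn : n ∈ N) (hb : b ∈ H)
    (hsq : n * b * n⁻¹ * b⁻¹ * (n * b * n⁻¹ * b⁻¹) = 1) : Commute n b := by
  have hm : n * b * n⁻¹ * b⁻¹ ∈ N := by
    rw [mul_assoc, mul_assoc]
    refine N.mul_mem hn ?_
    rw [← mul_assoc]
    exact hnorm b hb _ (N.inv_mem hn)
  have h := eq_one_of_sq hodd hm hsq
  rw [mul_inv_eq_one, mul_inv_eq_iff_eq_mul] at h
  exact h

theorem isPGroup_zpowers_root {v : SW ι} {w : ι → ZMod 2} (hv : v * v = base w) :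
    IsPGroup 2 (Subgroup.zpowers v) := by
  intro q
  refine ⟨2, Subtype.ext ?_⟩
  obtain ⟨n, hn⟩ := Subgroup.mem_zpowers_iff.mp q.2
  show (q : SW ι) ^ 2 ^ 2 = 1
  rw [← hn, ← zpow_natCast, ← zpow_mul, mul_comm, zpow_mul, zpow_natCast,
    show (2 : ℕ) ^ 2 = 2 + 2 from rfl, pow_add, pow_two, hv, base_mul_self, one_zpow]

theorem exists_root_univ (hev : Even (Fintype.card ι)) {U : ι → ZMod 2} (hU : par (base U) = 0) :
    ∃ v : SW ι, (∀ k, U (v.p k) = U k) ∧ v * v = cc := by
  have h1 : Even (Finset.univ.filter fun k => U k = 1).card := by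
    rw [← ZMod.natCast_eq_zero_iff_even, ← sum_eq_card, ← par_base, hU]
  have hsum := card_filter_zero U
  have hcls : ∀ c, Even (Finset.univ.filter fun k => U k = c).card := by
    intro c
    rcases z2_cases c with rfl | rfl
    · obtain ⟨a, ha⟩ := h1; obtain ⟨b, hb⟩ := hev; exact ⟨b - a, by omega⟩
    · exact h1
  obtain ⟨v, hv1, -, -, -, hv5⟩ := exists_root U _ Finset.univ rfl hcls
  refine ⟨v, hv1, hv5.trans ?_⟩
  simp only [cc, Finset.mem_univ, if_true]
  rfl

theorem exists_good (hev : Even (Fintype.card ι)) {U : ι → ZMod 2} (hU : par (base U) = 0) :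
    ∃ R, IsMax2 R (Subgroup.centralizer {base U}) ∧ Good R ∧ base U ∈ R := by
  obtain ⟨v, hv, hvv⟩ := exists_root_univ hev hU
  obtain ⟨R, hvR, hR⟩ := exists_max2 (Subgroup.centralizer {base U}) (Subgroup.zpowers v)
    (Subgroup.zpowers_le.mpr (mem_cent_base.mpr hv)) (isPGroup_zpowers_root hvv)
  exact ⟨R, hR, good_of_max hR (hvR (Subgroup.mem_zpowers v)) hvv, base_mem_of_max hR U⟩

theorem isConj_base_of_card {T S : ι → ZMod 2}
    (h : (Finset.univ.filter fun k => T k = 1).card = (Finset.univ.filter fun k => S k = 1).card) :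
    IsConj (base T) (base S) := by
  let e : {l // T l = 1} ≃ {l // S l = 1} := Fintype.equivOfCardEq (by
    rw [Fintype.card_subtype, Fintype.card_subtype, h])
  refine isConj_iff.mpr ⟨perm e.extendSubtype, ?_⟩
  rw [conj_base]
  congr 1
  funext l
  obtain ⟨l', rfl⟩ := e.extendSubtype.surjective l
  simp only [perm_p, Equiv.Perm.inv_def, Equiv.symm_apply_apply]
  by_cases hl : T l' = 1
  · rw [hl, e.extendSubtype_mem l' hl]
  · rw [(z2_cases _).resolve_right hl, (z2_cases _).resolve_right (e.extendSubtype_not_mem l' hl)]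

theorem card_of_isConj_base {T S : ι → ZMod 2} (h : IsConj (base T) (base S)) :
    (Finset.univ.filter fun k => T k = 1).card = (Finset.univ.filter fun k => S k = 1).card := by
  obtain ⟨a, ha⟩ := isConj_iff.mp h
  rw [conj_base] at ha
  have h2 := base_inj ha
  refine Finset.card_equiv a.p fun k => ?_
  simp only [Finset.mem_filter, Finset.mem_univ, true_and, ← h2, Equiv.Perm.inv_def,
    Equiv.symm_apply_apply]

namespace Setup

variable {G : Type*} [Group G] [Finite G] (D : Setup G ι)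

theorem rigid_base (hev : Even (Fintype.card ι)) {T S : ι → ZMod 2} (hT : par (base T) = 0)
    (hS : par (base S) = 0) (h : D.Rel (base T) (base S)) : IsConj (base T) (base S) := by
  obtain ⟨R, hR, hG, hTR⟩ := exists_good hev hT
  obtain ⟨R', hR', hG', hSR⟩ := exists_good hev hS
  exact D.rigid hG hG' hR hR' hTR hSR (base_mul_self T) (base_mul_self S) h

theorem rigid_cc (hev : Even (Fintype.card ι)) (U : ι → ZMod 2) (hU : par (base U) = 0)
    (h : D.Rel (base U) cc) : U = 1 := by
  obtain ⟨a, ha⟩ := isConj_iff.mp (D.rigid_base hev hU (par_cc hev) h).symm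
  have h1 : a * base 1 * a⁻¹ = base U := ha
  rw [conj_base] at h1
  exact (base_inj h1).symm

theorem exists_odd (hev : Even (Fintype.card ι)) (i : ι) :
    ∃ U : ι → ZMod 2, par (base U) = 1 ∧ Nonempty (Swap D.Rel (base U)) := by
  set y : SW ι := base (Pi.single i 1) with hy
  obtain ⟨R, -, hR⟩ := exists_max2 (Subgroup.centralizer {y}) ⊥ bot_le IsPGroup.of_bot
  have hE := base_mem_of_max hR
  have hctr : ∀ x, InCtr R x → x = base x.e := fun x hx =>
    eq_base (p_eq_one_of_commute fun v => (hx.2 _ (hE v)).symm)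
  have hodd : ∀ x, InCtr R x → x ≠ cc → D.Rel x cc → par (base x.e) = 1 := by
    intro x hx hne hrel
    refine (z2_cases _).resolve_left fun h0 => hne ?_
    rw [hctr x hx] at hrel ⊢
    rw [D.rigid_cc hev x.e h0 hrel]; rfl
  refine (fun ⟨x, hx, _, hne, hrel, hs⟩ => ?_) (D.exists_swap_of_char hR (hE _) (hE 1)
    (base_mul_self _) parHom (by simp [parHom, hy, par_base]) ?_ ?_ ?_)
  · -- `R` is not a largest 2-subgroup
    by_contra hcon
    push Not at hcon
    obtain ⟨v, -, hv⟩ := exists_root_univ hev (show par (base (1 : ι → ZMod 2)) = 0 from par_cc hev)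
    obtain ⟨R', hvR', hR'⟩ := exists_max2 ⊤ (Subgroup.zpowers v) le_top (isPGroup_zpowers_root hv)
    have hRtop : IsMax2 R ⊤ := ⟨le_top, hR.2.1, fun Q _ hQ => hcon Q hQ⟩
    obtain ⟨k, -, hk⟩ := hR'.conj hRtop
    have hv' : k * v * k⁻¹ ∈ R := hk ▸ ⟨v, hvR' (Subgroup.mem_zpowers v), rfl⟩
    have hsq : k * v * k⁻¹ * (k * v * k⁻¹) = cc := by
      rw [show k * v * k⁻¹ * (k * v * k⁻¹) = k * (v * v) * k⁻¹ by group, hv,
        ← (cc_comm k).eq, mul_inv_cancel_right]
    have hfix := mem_cent_base.mp (hR.1 hv') i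
    rw [Pi.single_eq_same] at hfix
    have hpi : (k * v * k⁻¹).p i = i := by
      by_contra h
      rw [Pi.single_eq_of_ne h] at hfix
      exact zero_ne_one hfix
    have h2 := (root_spec hsq).2 i
    rw [hpi, z2_add_self] at h2
    exact zero_ne_one h2
  · -- the bound
    intro x hx hxx hne hrel
    refine ⟨fun a ha => Subgroup.mem_centralizer_singleton_iff.mpr (hx.2 a ha).eq, hR.2.1, ?_⟩
    intro Q hQ hQp
    have h1 := hodd x hx hne hrel
    rw [par_base, sum_eq_card, ZMod.natCast_eq_one_iff_odd] at h1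
    rw [hctr x hx] at hQ
    obtain ⟨q, -, hfix⟩ := exists_fixed hQp _ (fun a ha l hl => by
      rw [Finset.mem_filter] at hl ⊢
      exact ⟨Finset.mem_univ _, (mem_cent_base.mp (hQ ha) l).trans hl.2⟩) h1
    rw [← Subgroup.card_map_of_injective (f := (MulAut.conj (perm (Equiv.swap q i))).toMonoidHom)
      (MulAut.conj (perm (Equiv.swap q i))).injective (K := Q)]
    refine hR.2.2 _ ?_ (hQp.map _)
    rintro _ ⟨a, ha, rfl⟩
    show perm _ * a * (perm _)⁻¹ ∈ _
    rw [hy, mem_cent_base, conj_perm]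
    intro l
    obtain ⟨m, rfl⟩ := (Equiv.swap q i).surjective l
    have hq : ∀ r, (Pi.single i (1 : ZMod 2) : ι → ZMod 2) (Equiv.swap q i r) =
        (Pi.single q (1 : ZMod 2) : ι → ZMod 2) r := by
      intro r
      simp only [Pi.single_apply]
      exact if_congr (by rw [Equiv.swap_apply_eq_iff, Equiv.swap_apply_right]) rfl rfl
    simp only [Equiv.Perm.mul_apply, Equiv.Perm.inv_def, Equiv.symm_apply_apply, hq]
    simp only [Pi.single_apply]
    have := hfix a ha
    refine if_congr ⟨fun h => a.p.injective (h.trans this.symm), fun h => by rw [h, this]⟩ rfl rfl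
  · -- no odd normal subgroup
    intro x hx hxx hne hrel N hN hnorm hNodd
    rw [Subgroup.eq_bot_iff_forall]
    intro n hn
    rw [hctr x hx] at hN hnorm
    have hnp : n.p = 1 := p_eq_one_of_commute fun v => by
      refine commute_of_core hnorm hNodd hn (mem_cent_base.mpr fun l => rfl) ?_
      rw [conj_base, show (base v)⁻¹ = base v from inv_eq_of_mul_eq_one_right (base_mul_self v),
        base_mul, base_mul_self]
    exact eq_one_of_sq hNodd hn (by rw [eq_base hnp, base_mul_self])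
  · refine ⟨x.e, hodd x hx hne hrel, ?_⟩
    rw [← hctr x hx]; exact hs

theorem exists_pair (hev : Even (Fintype.card ι)) {i j : ι} (hij : i ≠ j) :
    ∃ x : SW ι, x.p = Equiv.swap i j ∧ x.e i = x.e j ∧ par x = 0 ∧ Nonempty (Swap D.Rel x) := by
  set y : SW ι := perm (Equiv.swap i j) with hy
  have hY : IsPair y i j := ⟨hij, rfl, rfl⟩
  have hyC : ∀ a : SW ι, ((a.p i = i ∧ a.p j = j) ∨ (a.p i = j ∧ a.p j = i)) → a.e i = a.e j →
      a ∈ Subgroup.centralizer ({y} : Set (SW ι)) := fun a h h' =>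
    hY.mem_cent.mpr ⟨h, h', fun _ => rfl⟩
  set L : Finset ι := ({i, j} : Finset ι)ᶜ with hL
  have hLev : ∀ c : Unit, Even (L.filter fun _ => () = c).card := by
    intro c
    rw [Finset.filter_true_of_mem (fun _ _ => Subsingleton.elim _ _), hL, Finset.card_compl,
      Finset.card_pair hij]
    obtain ⟨n, hn⟩ := hev
    exact ⟨n - 1, by omega⟩
  obtain ⟨d, -, hd2, hd3, -, hd5⟩ := exists_root (fun _ : ι => ()) L.card L rfl hLev
  have hdi := hd2 i (by simp [hL])
  have hdj := hd2 j (by simp [hL])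
  obtain ⟨R, hdR, hR⟩ := exists_max2 (Subgroup.centralizer {y}) (Subgroup.zpowers d)
    (Subgroup.zpowers_le.mpr (hyC d (Or.inl ⟨hdi.1, hdj.1⟩) (by rw [hdi.2, hdj.2])))
    (isPGroup_zpowers_root hd5)
  -- the fixer of the pair lies in `R`
  let M : Subgroup (SW ι) :=
    { carrier := {a | PairFix y i j a}
      one_mem' := ⟨Subgroup.one_mem _, fun _ _ _ => rfl⟩
      mul_mem' := fun {a b} ha hb => ⟨Subgroup.mul_mem _ ha.1 hb.1, fun k h1 h2 => by
        rw [mul_p, Equiv.Perm.mul_apply, hb.2 k h1 h2, ha.2 k h1 h2]⟩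
      inv_mem' := fun {a} ha => ⟨Subgroup.inv_mem _ ha.1, fun k h1 h2 => by
        rw [inv_p, Equiv.Perm.inv_def, Equiv.symm_apply_eq, ha.2 k h1 h2]⟩ }
  have hsqM : ∀ a, PairFix y i j a → a * a = 1 := by
    intro a ha
    obtain ⟨hp, he, -⟩ := hY.mem_cent.mp ha.1
    rw [mul_self_eq_one_iff]
    refine ⟨Equiv.ext fun k => ?_, fun k => ?_⟩ <;> rcases eq_or_ne k i with rfl | h1
    · rcases hp with ⟨u, w⟩ | ⟨u, w⟩ <;> simp [u, w]
    · rcases eq_or_ne k j with rfl | h2
      · rcases hp with ⟨u, w⟩ | ⟨u, w⟩ <;> simp [u, w]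
      · simp [ha.2 k h1 h2]
    · rcases hp with ⟨u, w⟩ | ⟨u, w⟩ <;> simp [u, he]
    · rcases eq_or_ne k j with rfl | h2
      · rcases hp with ⟨u, w⟩ | ⟨u, w⟩ <;> simp [w, he]
      · rw [ha.2 k h1 h2]
  have hMR : M ≤ R := hR.le_of_normalized (fun a ha => ha.1) (isPGroup_of_sq hsqM)
    (fun h hh a ha => hY.pairFix_conj ha hh)
  have hyM : y ∈ M := ⟨Subgroup.mem_centralizer_singleton_iff.mpr rfl, fun k h1 h2 =>
    Equiv.swap_apply_of_ne_of_ne h1 h2⟩
  have hbM : ∀ v : ι → ZMod 2, v i = v j → base v ∈ M := fun v hv =>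
    ⟨hyC _ (Or.inl ⟨rfl, rfl⟩) hv, fun _ _ _ => rfl⟩
  have hctr : ∀ x, InCtr R x → PairFix y i j x ∧ par x = 0 := by
    intro x hx
    have hfix : PairFix y i j x := by
      refine ⟨hR.1 hx.1, fun k h1 h2 => ?_⟩
      have h := commute_base_iff.mp
        (hx.2 _ (hMR (hbM (Pi.single k 1) (by simp [h1.symm, h2.symm])))).symm k
      rw [Pi.single_eq_same] at h
      by_contra hne
      rw [Pi.single_eq_of_ne hne] at h
      exact zero_ne_one h
    refine ⟨hfix, ?_⟩
    obtain ⟨hp, he, -⟩ := hY.mem_cent.mp hfix.1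
    have hxd := (hx.2 d (hdR (Subgroup.mem_zpowers d))).eq
    have hdi' : ∀ k, d.e (x.p⁻¹ k) = d.e k := by
      intro k
      obtain ⟨l, rfl⟩ := x.p.surjective k
      rw [Equiv.Perm.inv_def, Equiv.symm_apply_apply]
      rcases eq_or_ne l i with rfl | h1
      · rcases hp with ⟨u, -⟩ | ⟨u, -⟩ <;> rw [u]
        rw [hdi.2, hdj.2]
      rcases eq_or_ne l j with rfl | h2
      · rcases hp with ⟨-, u⟩ | ⟨-, u⟩ <;> rw [u]
        rw [hdi.2, hdj.2]
      rw [hfix.2 l h1 h2]
    have hxe : ∀ k, x.e (d.p k) = x.e k := by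
      intro k
      have := congrArg (fun q : SW ι => q.e k) hxd
      simp only [mul_e, hdi', inv_eq_of_mul_eq_one_right hd3] at this
      rw [add_comm (x.e k)] at this
      exact add_left_cancel this
    have hLe : ∀ k, (if k ∈ L then (1 : ZMod 2) else 0) = d.e k + d.e (d.p k) := by
      intro k
      have := congrArg (fun q : SW ι => q.e k) hd5
      simpa [inv_eq_of_mul_eq_one_right hd3] using this.symm
    have hsum : ∑ k ∈ L, x.e k = 0 := by
      calc ∑ k ∈ L, x.e k = ∑ k, x.e k * (if k ∈ L then (1 : ZMod 2) else 0) := by simp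
        _ = ∑ k, x.e k * d.e k + ∑ k, x.e k * d.e (d.p k) := by
          simp only [hLe, mul_add, Finset.sum_add_distrib]
        _ = ∑ k, x.e k * d.e k + ∑ k, x.e k * d.e k := by
          congr 1
          rw [← Equiv.sum_comp d.p (fun k => x.e k * d.e k)]
          exact Finset.sum_congr rfl fun k _ => by rw [hxe]
        _ = 0 := z2_add_self _
    rw [par, ← Finset.sum_add_sum_compl ({i, j} : Finset ι), ← hL, hsum, Finset.sum_pair hij, he,
      z2_add_self, add_zero]
  have hswap : ∀ x, InCtr R x → x ≠ cc → D.Rel x cc → x.p = Equiv.swap i j := by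
    intro x hx hne hrel
    obtain ⟨hfix, hpar⟩ := hctr x hx
    obtain ⟨hp, -, -⟩ := hY.mem_cent.mp hfix.1
    rcases hp with ⟨u, w⟩ | ⟨u, w⟩
    · exfalso
      have hp1 : x.p = 1 := Equiv.ext fun k => by
        rcases eq_or_ne k i with rfl | h1
        · exact u
        rcases eq_or_ne k j with rfl | h2
        · exact w
        exact hfix.2 k h1 h2
      rw [eq_base hp1] at hne hrel hpar
      exact hne (by rw [D.rigid_cc hev x.e hpar hrel]; rfl)
    · exact Equiv.ext fun k => by
        rcases eq_or_ne k i with rfl | h1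
        · rw [u, Equiv.swap_apply_left]
        rcases eq_or_ne k j with rfl | h2
        · rw [w, Equiv.swap_apply_right]
        rw [hfix.2 k h1 h2, Equiv.swap_apply_of_ne_of_ne h1 h2]
  have hcore : ∀ x, InCtr R x → x ≠ cc → D.Rel x cc →
      ∀ N : Subgroup (SW ι), N ≤ Subgroup.centralizer {x} →
      (∀ c ∈ Subgroup.centralizer ({x} : Set (SW ι)), ∀ n ∈ N, c * n * c⁻¹ ∈ N) →
      Odd (Nat.card N) → N = ⊥ := by
    intro x hx hne hrel N hN hnorm hNodd
    rw [Subgroup.eq_bot_iff_forall]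
    intro n hn
    have hX : IsPair x i j := ⟨hij, hswap x hx hne hrel, (hY.mem_cent.mp (hctr x hx).1.1).2.1⟩
    have hn' : PairFix y i j n := by
      obtain ⟨hp, he, -⟩ := hX.mem_cent.mp (hN hn)
      refine ⟨hyC n hp he, fun k h1 h2 => ?_⟩
      have hb : base (Pi.single k (1 : ZMod 2)) ∈ Subgroup.centralizer ({x} : Set (SW ι)) :=
        hX.mem_cent.mpr ⟨Or.inl ⟨rfl, rfl⟩, by simp [h1.symm, h2.symm], fun l => rfl⟩
      have hc := commute_of_core hnorm hNodd hn hb (by
        rw [conj_base, show (base (Pi.single k (1 : ZMod 2)))⁻¹ = base (Pi.single k 1) from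
          inv_eq_of_mul_eq_one_right (base_mul_self _), base_mul, base_mul_self])
      have h := commute_base_iff.mp hc k
      rw [Pi.single_eq_same] at h
      by_contra hne'
      rw [Pi.single_eq_of_ne hne'] at h
      exact zero_ne_one h
    exact eq_one_of_sq hNodd hn (hsqM n hn')
  refine (fun ⟨x, hx, _, hne, hrel, hs⟩ => ?_) (D.exists_swap_of_char hR (hMR hyM)
    (hMR (hbM 1 rfl)) (hsqM y hyM) signHom
    (by show Equiv.Perm.sign (Equiv.swap i j) = -1; exact Equiv.Perm.sign_swap hij) ?_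
    (fun x hx _ hne hrel => ⟨fun a ha => Subgroup.mem_centralizer_singleton_iff.mpr (hx.2 a ha).eq,
      hR.2.1, fun Q hQ hQp => hR.2.2 Q (fun a ha => by
        have hX : IsPair x i j := ⟨hij, hswap x hx hne hrel, (hY.mem_cent.mp (hctr x hx).1.1).2.1⟩
        obtain ⟨hp, he, -⟩ := hX.mem_cent.mp (hQ ha)
        exact hyC a hp he) hQp⟩)
    (fun x hx _ hne hrel => hcore x hx hne hrel))
  · by_contra hcon
    push Not at hcon
    obtain ⟨v, -, hv⟩ := exists_root_univ hev (show par (base (1 : ι → ZMod 2)) = 0 from par_cc hev)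
    obtain ⟨R', hvR', hR'⟩ := exists_max2 ⊤ (Subgroup.zpowers v) le_top (isPGroup_zpowers_root hv)
    have hRtop : IsMax2 R ⊤ := ⟨le_top, hR.2.1, fun Q _ hQ => hcon Q hQ⟩
    obtain ⟨k, -, hk⟩ := hR'.conj hRtop
    have hv' : k * v * k⁻¹ ∈ R := hk ▸ ⟨v, hvR' (Subgroup.mem_zpowers v), rfl⟩
    have hsq : k * v * k⁻¹ * (k * v * k⁻¹) = cc := by
      rw [show k * v * k⁻¹ * (k * v * k⁻¹) = k * (v * v) * k⁻¹ by group, hv,
        ← (cc_comm k).eq, mul_inv_cancel_right]
    obtain ⟨hp, he, -⟩ := hY.mem_cent.mp (hR.1 hv')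
    have h2 := (root_spec hsq).2 i
    rcases hp with ⟨u, -⟩ | ⟨u, -⟩
    · rw [u, z2_add_self] at h2; exact zero_ne_one h2
    · rw [u, ← he, z2_add_self] at h2; exact zero_ne_one h2
  · exact ⟨x, hswap x hx hne hrel, (hY.mem_cent.mp (hctr x hx).1.1).2.1, (hctr x hx).2, hs⟩

theorem ax (hev : Even (Fintype.card ι)) (h2 : 2 ≤ Fintype.card ι) : Ax D.Rel := by
  obtain ⟨i, j, hij⟩ := Fintype.one_lt_card_iff.mp h2
  exact ⟨Rel.symm D, Rel.trans D, D.rel_of_isConj, D.rigid_cc hev, D.exists_odd hev i,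
    let ⟨x, h⟩ := D.exists_pair hev hij; ⟨x, i, j, hij, h⟩⟩

/-- The number of classes of involutions. -/
theorem card_classes {n : ℕ} (hn : 1 ≤ n) (D : Setup G (Fin (2 * n))) :
    Nat.card {c : ConjClasses G // ∃ x ∈ c.carrier, orderOf x = 2} = n := by
  classical
  have hev : Even (Fintype.card (Fin (2 * n))) := by rw [Fintype.card_fin]; exact even_two_mul n
  have A := D.ax hev (by rw [Fintype.card_fin]; omega)
  let V : Fin n → Fin (2 * n) → ZMod 2 := fun k i => if (i : ℕ) < 2 * k + 2 then 1 else 0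
  have hVcard : ∀ k : Fin n, (Finset.univ.filter fun i => V k i = 1).card = 2 * k + 2 := by
    intro k
    have hk := k.2
    have : (Finset.univ.filter fun i => V k i = 1) =
        (Finset.univ : Finset (Fin (2 * (k : ℕ) + 2))).map (Fin.castLEEmb (by omega)) := by
      ext i
      simp only [V, Finset.mem_filter, Finset.mem_univ, true_and, Finset.mem_map]
      constructor
      · intro h
        by_cases hi : (i : ℕ) < 2 * k + 2
        · exact ⟨⟨i, hi⟩, Fin.ext rfl⟩
        · rw [if_neg hi] at h; exact absurd h zero_ne_one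
      · rintro ⟨a, rfl⟩
        rw [if_pos (show ((Fin.castLEEmb _ a : Fin (2 * n)) : ℕ) < 2 * k + 2 from a.2)]
    rw [this, Finset.card_map, Finset.card_univ, Fintype.card_fin]
  have hVpar : ∀ k, par (base (V k)) = 0 := fun k => by
    rw [par_base, sum_eq_card, hVcard, ZMod.natCast_eq_zero_iff_even]
    exact ⟨k + 1, by ring⟩
  choose a ha haf using fun k => D.exists_lift (base_mul_self (V k))
  have hord : ∀ k, orderOf (a k : G) = 2 := by
    intro k
    refine orderOf_eq_prime (by rw [pow_two]; exact congrArg Subtype.val (ha k)) fun h => ?_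
    have h1 : a k = 1 := Subtype.ext h
    have h2 := haf k
    rw [h1, map_one] at h2
    have h3 := hVcard k
    rw [← base_inj (h2.symm.trans base_zero.symm).symm] at h3
    simp at h3
  refine (Nat.card_eq_of_bijective (fun k : Fin n =>
    (⟨ConjClasses.mk (a k : G), a k, ConjClasses.mem_carrier_mk, hord k⟩ :
      {c : ConjClasses G // ∃ x ∈ c.carrier, orderOf x = 2})) ⟨?_, ?_⟩).symm.trans (Nat.card_fin n)
  · intro k l h
    have h1 : IsConj (a k : G) (a l) :=
      ConjClasses.mk_eq_mk_iff_isConj.mp (congrArg Subtype.val h)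
    have h2 := card_of_isConj_base (D.rigid_base hev (hVpar k) (hVpar l)
      ⟨a k, a l, ha k, ha l, haf k, haf l, h1⟩)
    rw [hVcard, hVcard] at h2
    exact Fin.ext (by omega)
  · rintro ⟨c, x, hxc, hx⟩
    haveI : Fact (Nat.Prime 2) := ⟨Nat.prime_two⟩
    have hxx : x * x = 1 := by rw [← pow_two, ← hx, pow_orderOf_eq_one]
    obtain ⟨S, hS⟩ := D.sylow
    have hz : IsPGroup 2 (Subgroup.zpowers x) :=
      IsPGroup.of_card (n := 1) (by rw [Nat.card_zpowers, hx, pow_one])
    obtain ⟨T, hT⟩ := hz.exists_le_sylow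
    obtain ⟨g, hg⟩ := MulAction.exists_smul_eq G T S
    have hgx : g * x * g⁻¹ ∈ D.H := hS (by
      rw [← hg, Sylow.coe_subgroup_smul]
      exact ⟨x, hT (Subgroup.mem_zpowers x), rfl⟩)
    set b : D.H := ⟨g * x * g⁻¹, hgx⟩
    have hbb : b * b = 1 := Subtype.ext (by
      show g * x * g⁻¹ * (g * x * g⁻¹) = 1
      rw [show g * x * g⁻¹ * (g * x * g⁻¹) = g * (x * x) * g⁻¹ by group, hxx]; group)
    obtain ⟨W, hW, hrel⟩ := A.reduced hev (D.f b) (by rw [← map_mul, hbb, map_one])
    obtain ⟨b', w, hb', hw, hbf, hwf, hconj⟩ := hrel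
    have hxw : IsConj x (w : G) :=
      ((isConj_iff.mpr ⟨g, rfl⟩ : IsConj x (b : G)).trans
        (D.isConj_of_f hbb hb' (by rw [hbf]))).trans hconj
    have hW0 : (Finset.univ.filter fun i => W i = 1).card ≠ 0 := by
      intro h0
      have hW1 : W = 0 := funext fun i => (z2_cases (W i)).resolve_right fun h =>
        Finset.eq_empty_iff_forall_notMem.mp (Finset.card_eq_zero.mp h0) i
          (Finset.mem_filter.mpr ⟨Finset.mem_univ _, h⟩)
      obtain ⟨k, -, hk⟩ := D.lift_conj (mul_one 1) hw (by rw [map_one, hwf, hW1, base_zero])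
      rw [mul_one, mul_inv_cancel] at hk
      rw [← hk, Subgroup.coe_one] at hxw
      have hx1 := isConj_one_left.mp hxw
      rw [hx1, orderOf_one] at hx
      exact absurd hx (by norm_num)
    have hWev : Even (Finset.univ.filter fun i => W i = 1).card := by
      rw [← ZMod.natCast_eq_zero_iff_even, ← sum_eq_card, ← par_base, hW]
    obtain ⟨m, hm⟩ := hWev
    have hle : (Finset.univ.filter fun i => W i = 1).card ≤ 2 * n := by
      have := Finset.card_filter_le (Finset.univ : Finset (Fin (2 * n))) (fun i => W i = 1)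
      rwa [Finset.card_univ, Fintype.card_fin] at this
    refine ⟨⟨m - 1, by omega⟩, Subtype.ext ?_⟩
    refine Eq.trans ?_ (ConjClasses.mem_carrier_iff_mk_eq.mp hxc)
    refine ConjClasses.mk_eq_mk_iff_isConj.mpr (IsConj.symm (hxw.trans (D.isConj_of_f hw (ha _) ?_)))
    rw [hwf, haf]
    refine isConj_base_of_card ?_
    rw [hVcard]
    show _ = 2 * (m - 1) + 2
    omega

end Setup

end Cfsg.Agent.Kondo
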