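import Cfsg.Agent.Lib.Kondo.Reduce

/-!
# The covering theorem
-/

set_option autoImplicit false
set_option linter.style.haveILetI false
set_option linter.unusedSectionVars false

namespace Cfsg.Agent.Kondo

open SW

variable {ι : Type} [Fintype ι] [DecidableEq ι] {Rel : SW ι → SW ι → Prop} {x : SW ι} {i j : ι}

theorem IsPair.mem_cent_of_const (hx : IsPair x i j)
    (hc : ∀ k l, k ≠ i → k ≠ j → l ≠ i → l ≠ j → x.e k = x.e l) {a : SW ι}
    (hp : (a.p i = i ∧ a.p j = j) ∨ (a.p i = j ∧ a.p j = i)) (he : a.e i = a.e j) :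
    a ∈ Subgroup.centralizer ({x} : Set (SW ι)) := by
  refine hx.mem_cent.mpr ⟨hp, he, fun k => ?_⟩
  rcases eq_or_ne k i with rfl | h1
  · rcases hp with ⟨u, -⟩ | ⟨u, -⟩ <;> rw [u]
    exact hx.e_eq.symm
  rcases eq_or_ne k j with rfl | h2
  · rcases hp with ⟨-, u⟩ | ⟨-, u⟩ <;> rw [u]
    exact hx.e_eq
  rcases hp with ⟨u, w⟩ | ⟨u, w⟩
  · exact hc _ _ (fun e => h1 (a.p.injective (e.trans u.symm)))
      (fun e => h2 (a.p.injective (e.trans w.symm))) h1 h2
  · exact hc _ _ (fun e => h2 (a.p.injective (e.trans w.symm)))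
      (fun e => h1 (a.p.injective (e.trans u.symm))) h1 h2

theorem IsPair.self_mul_self (hx : IsPair x i j)
    (hc : ∀ k, x.e (Equiv.swap i j k) = x.e k) : x * x = 1 := by
  rw [mul_self_eq_one_iff, hx.p_eq]
  exact ⟨Equiv.swap_mul_self i j, hc⟩

theorem IsPair.mul_self_one (hx : IsPair x i j) : x * x = 1 := by
  refine hx.self_mul_self fun k => ?_
  rcases eq_or_ne k i with rfl | h1
  · rw [Equiv.swap_apply_left, hx.e_eq]
  rcases eq_or_ne k j with rfl | h2
  · rw [Equiv.swap_apply_right, hx.e_eq]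
  rw [Equiv.swap_apply_of_ne_of_ne h1 h2]

/-- An involution moving something is conjugate to one exchanging `i` and `j`. -/
theorem exists_conj_pair {z : SW ι} (hij : i ≠ j) (hz : z * z = 1) (hzp : z.p ≠ 1) :
    ∃ z', IsConj z z' ∧ z' * z' = 1 ∧ z'.p i = j ∧ z'.p j = i ∧ z'.e i = z'.e j ∧
      fixCount z'.p = fixCount z.p := by
  obtain ⟨k, hk⟩ : ∃ k, z.p k ≠ k := by
    by_contra hcon
    push Not at hcon
    exact hzp (Equiv.ext hcon)
  obtain ⟨hp, he⟩ := mul_self_eq_one_iff.mp hz
  obtain ⟨π, h1, h2⟩ := exists_perm_pair (i := i) (j := j) (Ne.symm hk) hij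
  have hz2 : z.p (z.p k) = k := Equiv.ext_iff.mp hp k
  refine ⟨perm π * z * (perm π)⁻¹, isConj_iff.mpr ⟨_, rfl⟩, ?_, ?_, ?_, ?_, ?_⟩
  · rw [show perm π * z * (perm π)⁻¹ * (perm π * z * (perm π)⁻¹) = perm π * (z * z) * (perm π)⁻¹ by
      group, hz]
    group
  · simp [conj_perm, (Equiv.symm_apply_eq _).mpr h1.symm, h2]
  · simp [conj_perm, (Equiv.symm_apply_eq _).mpr h2.symm, hz2, h1]
  · simp [conj_perm, (Equiv.symm_apply_eq _).mpr h1.symm, (Equiv.symm_apply_eq _).mpr h2.symm,
      he k]
  · rw [conj_perm]; exact fixCount_conj π z.p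

/-- One of the two conjugates `z`, `z * pairVec` maps to an element fixing the pair. -/
theorem Ax.step (A : Ax Rel) (hev : Even (Fintype.card ι)) (hx : IsPair x i j) (hpar : par x = 0)
    (σ : Swap Rel x) {z : SW ι} (hz : z * z = 1) (hi : z.p i = j) (hj : z.p j = i)
    (he : z.e i = z.e j) :
    ∃ v : ↥(Subgroup.centralizer ({x} : Set (SW ι))), v * v = 1 ∧ IsConj z (v : SW ι) ∧
      (v : SW ι).p = z.p ∧ (σ.φ v : SW ι).p i = i ∧ (σ.φ v : SW ι).p j = j := by
  have hc := fun k l h1 h2 h3 h4 => A.const_off hev hx hpar σ (k := k) (l := l) h1 h2 h3 h4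
  have hzC := hx.mem_cent_of_const hc (Or.inr ⟨hi, hj⟩) he
  set L : Finset ι := ({i, j} : Finset ι)ᶜ with hL
  have hLev : ∀ c : Unit, Even (L.filter fun _ => () = c).card := by
    intro c
    rw [Finset.filter_true_of_mem (fun _ _ => Subsingleton.elim _ _), hL, Finset.card_compl,
      Finset.card_pair hx.ne]
    obtain ⟨n, hn⟩ := hev
    exact ⟨n - 1, by omega⟩
  obtain ⟨d, -, hd2, -, -, hd5⟩ := exists_root (fun _ : ι => ()) L.card L rfl hLev
  have hdi := hd2 i (by simp [hL])
  have hdj := hd2 j (by simp [hL])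
  have hdC := hx.mem_cent_of_const hc (a := d) (Or.inl ⟨hdi.1, hdj.1⟩) (by rw [hdi.2, hdj.2])
  have hvec : (cc : SW ι) * (d * d) = base (pairVec i j) := by
    rw [hd5, cc, base_mul]
    congr 1
    funext k
    simp only [Pi.add_apply, Pi.one_apply, pairVec, indv, hL, Finset.mem_compl]
    by_cases hk : k ∈ ({i, j} : Finset ι) <;> simp [hk, z2_add_self]
  let C := Subgroup.centralizer ({x} : Set (SW ι))
  let D : C := ⟨d, hdC⟩
  let Z : C := ⟨z, hzC⟩
  let K : C := ⟨cc, Subgroup.mem_centralizer_singleton_iff.mpr (cc_comm x).eq⟩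
  have hpP : PairFix x i j (D * D : SW ι) :=
    ⟨(D * D).2, fun q _ _ => by
      show (d * d).p q = q
      rw [hd5, base_p, Equiv.Perm.one_apply]⟩
  have hKp : (σ.φ (K * (D * D)) : SW ι).p = Equiv.swap i j := by
    rw [map_mul, Subgroup.coe_mul, σ.map_cc, mul_p, (hx.image_sq σ.φ D hpP).1, mul_one, hx.p_eq]
  obtain ⟨hp, -, -⟩ := hx.mem_cent.mp (σ.φ Z).2
  rcases hp with ⟨u, w⟩ | ⟨u, w⟩
  · exact ⟨Z, Subtype.ext hz, IsConj.refl _, rfl, u, w⟩
  · refine ⟨Z * (K * (D * D)), ?_, ?_, ?_, ?_, ?_⟩
    · obtain ⟨c, hc'⟩ := isConj_iff.mp (isConj_mul_pair hx.ne hi hj)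
      apply Subtype.ext
      show z * (cc * (d * d)) * (z * (cc * (d * d))) = 1
      rw [hvec, ← hc', show c * z * c⁻¹ * (c * z * c⁻¹) = c * (z * z) * c⁻¹ by group, hz]
      group
    · show IsConj z (z * (cc * (d * d)))
      rw [hvec]; exact isConj_mul_pair hx.ne hi hj
    · show (z * (cc * (d * d))).p = z.p
      rw [hvec, mul_p, base_p, mul_one]
    · rw [map_mul, Subgroup.coe_mul, mul_p, Equiv.Perm.mul_apply, hKp, Equiv.swap_apply_left, w]
    · rw [map_mul, Subgroup.coe_mul, mul_p, Equiv.Perm.mul_apply, hKp, Equiv.swap_apply_right, u]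

/-- The case of more than four or of two points. -/
theorem Ax.reduced_of_card_ne (A : Ax Rel) (hev : Even (Fintype.card ι))
    (h4 : Fintype.card ι ≠ 4) : ∀ z : SW ι, z * z = 1 → Reduced Rel z := by
  obtain ⟨x, i, j, hij, hxp, hxe, hpar, ⟨σ⟩⟩ := A.swp
  have hx : IsPair x i j := ⟨hij, hxp, hxe⟩
  have hc := fun k l h1 h2 h3 h4 => A.const_off hev hx hpar σ (k := k) (l := l) h1 h2 h3 h4
  suffices H : ∀ n, ∀ z : SW ι, z * z = 1 →
      Nat.card (ι → ZMod 2) - fixCount z.p = n → Reduced Rel z from
    fun z hz => H _ z hz rfl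
  intro n
  induction n using Nat.strong_induction_on with
  | _ n ih =>
  intro z hz hn
  by_cases hzp : z.p = 1
  · have := A.reduced_base hev z.e
    rwa [← eq_base hzp] at this
  obtain ⟨z', hzz', hz', hi, hj, he, hN⟩ := exists_conj_pair hij hz hzp
  obtain ⟨v, hv, hzv, hvp, hfi, hfj⟩ := A.step hev hx hpar σ hz' hi hj he
  refine A.reduced_trans (A.trans (A.of_conj hz (hzz'.trans hzv)) (σ.rel v hv)) ?_
  set y := (σ.φ v : SW ι) with hy
  have hyy : y * y = 1 := by
    rw [hy, ← Subgroup.coe_mul, ← map_mul, hv, map_one]; rfl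
  let C := Subgroup.centralizer ({x} : Set (SW ι))
  let M : Type := {m : C // PairFix x i j (m : SW ι)}
  have hpres : ∀ m : M, PairFix x i j (σ.φ m.1 : SW ι) := by
    intro m
    refine ⟨(σ.φ m.1).2, fun k hki hkj => ?_⟩
    by_contra hne
    obtain ⟨hp, -, -⟩ := hx.mem_cent.mp (σ.φ m.1).2
    set k' := (σ.φ m.1 : SW ι).p k with hk'
    obtain ⟨q, hq⟩ : ∃ q, q ∉ ({i, j, k, k'} : Finset ι) := by
      by_contra hcon
      push Not at hcon
      have h1 : Fintype.card ι ≤ 4 := by
        rw [← Finset.card_univ]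
        exact (Finset.card_le_card fun q _ => hcon q).trans Finset.card_le_four
      have h2 : 3 ≤ Fintype.card ι := by
        have h5 : ({i, j, k} : Finset ι).card = 3 := by
          rw [Finset.card_insert_of_notMem (by simp [hij, hki.symm]), Finset.card_pair hkj.symm]
        rw [← Finset.card_univ, ← h5]
        exact Finset.card_le_card (Finset.subset_univ _)
      obtain ⟨a, ha⟩ := hev
      omega
    simp only [Finset.mem_insert, Finset.mem_singleton, not_or] at hq
    obtain ⟨q1, q2, q3, q4⟩ := hq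
    rcases hx.image_fix σ.φ m.1 m.2 hki hkj hne q1 q2 (hc q k q1 q2 hki hkj) with h | h
    · exact q3 h
    · exact q4 h
  haveI : Finite M := Subtype.finite
  let F : M → M := fun m => ⟨σ.φ m.1, hpres m⟩
  have hF : Function.Bijective F := Finite.injective_iff_bijective.mp fun a b h =>
    Subtype.ext (σ.φ.injective (congrArg (fun q : M => q.1) h))
  let K : SW ι → Type := fun u => {w : ι → ZMod 2 // w i = w j ∧ ∀ k, w (u.p k) = w k}
  have hcount : ∀ u : C, u * u = 1 →
      Nat.card {m : M // Commute (m.1 : C) u} = 2 * Nat.card (K u) := by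
    intro u hu
    obtain ⟨-, hue, -⟩ := hx.mem_cent.mp u.2
    obtain ⟨hup, -⟩ := mul_self_eq_one_iff.mp
      (show (u : SW ι) * u = 1 from congrArg Subtype.val hu)
    have hupi := inv_eq_of_mul_eq_one_right hup
    obtain ⟨hpu, -, -⟩ := hx.mem_cent.mp u.2
    let mk : Bool × K u → {m : M // Commute (m.1 : C) u} := fun bw =>
      ⟨⟨⟨⟨bw.2.1, if bw.1 then Equiv.swap i j else 1⟩, hx.mem_cent_of_const hc
          (by cases bw.1 <;> simp) bw.2.2.1⟩, hx.mem_cent_of_const hc
          (by cases bw.1 <;> simp) bw.2.2.1, fun k h1 h2 => by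
            cases bw.1 <;> simp [Equiv.swap_apply_of_ne_of_ne h1 h2]⟩, by
        obtain ⟨b, ⟨w, hw1, hw2⟩⟩ := bw
        have hsw : ∀ f : ι → ZMod 2, f i = f j → ∀ k,
            f ((if b then Equiv.swap i j else (1 : Equiv.Perm ι))⁻¹ k) = f k := by
          intro f hf k
          cases b
          · simp
          · simp only [if_true, Equiv.swap_inv]
            rcases eq_or_ne k i with rfl | h1
            · rw [Equiv.swap_apply_left, hf]
            rcases eq_or_ne k j with rfl | h2
            · rw [Equiv.swap_apply_right, hf]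
            rw [Equiv.swap_apply_of_ne_of_ne h1 h2]
        apply Subtype.ext
        simp only [Subgroup.coe_mul]
        ext k
        · simp only [mul_e]
          rw [hupi, hw2, hsw _ hue, add_comm]
        · simp only [mul_p, Equiv.Perm.mul_apply]
          cases b
          · simp
          · simp only [if_true]
            rcases eq_or_ne k i with rfl | h1
            · rcases hpu with ⟨a, c⟩ | ⟨a, c⟩ <;> simp [a, c]
            rcases eq_or_ne k j with rfl | h2
            · rcases hpu with ⟨a, c⟩ | ⟨a, c⟩ <;> simp [a, c]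
            have h3 : (u : SW ι).p k ≠ i ∧ (u : SW ι).p k ≠ j := by
              rcases hpu with ⟨a, c⟩ | ⟨a, c⟩
              · exact ⟨fun e => h1 ((u : SW ι).p.injective (e.trans a.symm)),
                  fun e => h2 ((u : SW ι).p.injective (e.trans c.symm))⟩
              · exact ⟨fun e => h2 ((u : SW ι).p.injective (e.trans c.symm)),
                  fun e => h1 ((u : SW ι).p.injective (e.trans a.symm))⟩
            rw [Equiv.swap_apply_of_ne_of_ne h1 h2, Equiv.swap_apply_of_ne_of_ne h3.1 h3.2]⟩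
    have hbij : Function.Bijective mk := by
      constructor
      · rintro ⟨b, w⟩ ⟨b', w'⟩ h
        have h1 := congrArg (fun q : {m : M // Commute (m.1 : C) u} => ((q.1.1 : C) : SW ι)) h
        simp only [mk] at h1
        obtain ⟨e1, e2⟩ := SW.mk.inj h1
        refine Prod.ext ?_ (Subtype.ext e1)
        have e3 := Equiv.ext_iff.mp e2 i
        cases b <;> cases b' <;>
          simp only [if_true, Bool.false_eq_true, if_false, Equiv.swap_apply_left,
            Equiv.Perm.one_apply] at e3 ⊢
        · exact absurd e3 hij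
        · exact absurd e3.symm hij
      · rintro ⟨⟨⟨m, hmC⟩, hm⟩, hmu⟩
        obtain ⟨hp, hme, -⟩ := hx.mem_cent.mp hmC
        have hmu' : m * (u : SW ι) = u * m := congrArg Subtype.val hmu.eq
        have hminv : ∀ f : ι → ZMod 2, f i = f j → ∀ k, f (m.p⁻¹ k) = f k := by
          intro f hf k
          obtain ⟨l, rfl⟩ := m.p.surjective k
          rw [Equiv.Perm.inv_def, Equiv.symm_apply_apply]
          rcases eq_or_ne l i with rfl | h1
          · rcases hp with ⟨a, -⟩ | ⟨a, -⟩ <;> rw [a]
            exact hf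
          rcases eq_or_ne l j with rfl | h2
          · rcases hp with ⟨-, a⟩ | ⟨-, a⟩ <;> rw [a]
            exact hf.symm
          rw [hm.2 l h1 h2]
        have hw : ∀ k, m.e ((u : SW ι).p k) = m.e k := by
          intro k
          have := congrArg (fun q : SW ι => q.e k) hmu'
          simp only [mul_e, hupi, hminv _ hue] at this
          rw [add_comm ((u : SW ι).e k)] at this
          exact (add_right_cancel this).symm
        refine ⟨(decide (m.p i = j), ⟨m.e, hme, hw⟩), ?_⟩
        refine Subtype.ext (Subtype.ext (Subtype.ext ?_))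
        refine SW.ext rfl ?_
        apply Equiv.ext
        intro k
        show (if decide (m.p i = j) then Equiv.swap i j else (1 : Equiv.Perm ι)) k = m.p k
        rcases hp with ⟨a, c⟩ | ⟨a, c⟩ <;> rcases eq_or_ne k i with rfl | h1
        · simp [a, hij]
        · rcases eq_or_ne k j with rfl | h2
          · simp [a, c, hij]
          · simp [a, hij, hm.2 k h1 h2]
        · simp [a]
        · rcases eq_or_ne k j with rfl | h2
          · simp [a, c]
          · simp [a, Equiv.swap_apply_of_ne_of_ne h1 h2, hm.2 k h1 h2]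
    rw [← Nat.card_eq_of_bijective mk hbij, Nat.card_prod]
    simp
  have hK : Nat.card (K (v : SW ι)) = Nat.card (K y) := by
    have hv' : σ.φ v * σ.φ v = 1 := by rw [← map_mul, hv, map_one]
    have h := hcount v hv
    have h' := hcount (σ.φ v) hv'
    show Nat.card (K (v : SW ι)) = Nat.card (K (σ.φ v : SW ι))
    have he : Nat.card {m : M // Commute (m.1 : C) v} =
        Nat.card {m : M // Commute (m.1 : C) (σ.φ v)} := by
      refine Nat.card_congr ((Equiv.ofBijective F hF).subtypeEquiv fun m => ?_)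
      show Commute (m.1 : C) v ↔ Commute (σ.φ m.1) (σ.φ v)
      exact ⟨fun hh => hh.map σ.φ.toMonoidHom, fun hh => σ.φ.injective (by
        rw [map_mul, map_mul]; exact hh.eq)⟩
    omega
  have hKv : fixCount z.p ≤ Nat.card (K (v : SW ι)) := by
    rw [← hN, ← hvp]
    have hvi : (v : SW ι).p i = j := by rw [hvp, hi]
    exact Nat.card_le_card_of_injective
      (fun w => (⟨w.1, by rw [← w.2 i, hvi], w.2⟩ : K v))
      (fun a b h => Subtype.ext (congrArg (fun q : K v => q.1) h))
  have hKy : Nat.card (K y) < fixCount y.p := by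
    haveI : Fintype {w : ι → ZMod 2 // ∀ k, w (y.p k) = w k} := Fintype.ofFinite _
    haveI : Fintype (K y) := Fintype.ofFinite _
    rw [fixCount, Nat.card_eq_fintype_card, Nat.card_eq_fintype_card]
    refine Fintype.card_lt_of_injective_of_notMem
      (fun w : K y => (⟨w.1, w.2.2⟩ : {w : ι → ZMod 2 // ∀ k, w (y.p k) = w k}))
      (fun a b h => Subtype.ext (congrArg
        (fun q : {w : ι → ZMod 2 // ∀ k, w (y.p k) = w k} => q.1) h))
      (b := ⟨Pi.single i 1, fun k => ?_⟩) ?_
    · rcases eq_or_ne k i with rfl | h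
      · rw [hfi]
      · rw [Pi.single_eq_of_ne h, Pi.single_eq_of_ne]
        exact fun e => h (y.p.injective (e.trans hfi.symm))
    · rintro ⟨w, hw⟩
      have h1 : w.1 = Pi.single i 1 := congrArg Subtype.val hw
      have h2 := w.2.1
      rw [h1, Pi.single_eq_same, Pi.single_eq_of_ne hij.symm] at h2
      exact one_ne_zero h2
  have hbound : fixCount y.p ≤ Nat.card (ι → ZMod 2) :=
    Nat.card_le_card_of_injective _ Subtype.val_injective
  exact ih _ (by omega) y hyy rfl

/-- The case of four points. -/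
theorem Ax.reduced_of_card_four (A : Ax Rel) (h4 : Fintype.card ι = 4) :
    ∀ z : SW ι, z * z = 1 → Reduced Rel z := by
  have hev : Even (Fintype.card ι) := ⟨2, h4⟩
  obtain ⟨x, i, j, hij, hxp, hxe, hpar, ⟨σ⟩⟩ := A.swp
  have hx : IsPair x i j := ⟨hij, hxp, hxe⟩
  have hc := fun k l h1 h2 h3 h4 => A.const_off hev hx hpar σ (k := k) (l := l) h1 h2 h3 h4
  obtain ⟨k, l, hkl, hL⟩ : ∃ k l, k ≠ l ∧ ({i, j} : Finset ι)ᶜ = {k, l} :=
    Finset.card_eq_two.mp (by rw [Finset.card_compl, Finset.card_pair hij, h4])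
  have hLmem : ∀ q, (q ≠ i ∧ q ≠ j) ↔ (q = k ∨ q = l) := by
    intro q
    have := congrArg (fun S : Finset ι => q ∈ S) hL
    simpa using this
  obtain ⟨hki, hkj⟩ := (hLmem k).mpr (Or.inl rfl)
  obtain ⟨hli, hlj⟩ := (hLmem l).mpr (Or.inr rfl)
  have hxx := hx.mul_self_one
  -- one exchanged pair, equal signs on both pairs
  have hsingle : ∀ z : SW ι, z.p = Equiv.swap i j → z.e i = z.e j → z.e k = z.e l →
      Reduced Rel z := by
    intro z hzp hze hzl
    have hz : IsPair z i j := ⟨hij, hzp, hze⟩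
    have hzz := hz.mul_self_one
    let C := Subgroup.centralizer ({x} : Set (SW ι))
    have hxk : x.e k = x.e l := hc k l hki hkj hli hlj
    obtain ⟨d, -, hd2, -, -, hd5⟩ := exists_root (fun _ : ι => ()) 2 {k, l}
      (Finset.card_pair hkl) (fun c => by
        rw [Finset.filter_true_of_mem (fun _ _ => Subsingleton.elim _ _), Finset.card_pair hkl]
        exact even_two)
    have hdi := hd2 i (by simp [hki.symm, hli.symm])
    have hdj := hd2 j (by simp [hkj.symm, hlj.symm])
    have hdC := hx.mem_cent_of_const hc (a := d) (Or.inl ⟨hdi.1, hdj.1⟩) (by rw [hdi.2, hdj.2])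
    let D : C := ⟨d, hdC⟩
    let X : C := ⟨x, Subgroup.mem_centralizer_singleton_iff.mpr rfl⟩
    have hpP : PairFix x i j (D * D : SW ι) :=
      ⟨(D * D).2, fun q _ _ => by
        show (d * d).p q = q
        rw [hd5, base_p, Equiv.Perm.one_apply]⟩
    -- the two base cases
    have hcase : ∀ u : C, u * u = 1 → (u = X ∨ u = X * (D * D)) → Reduced Rel (u : SW ι) := by
      intro u hu huX
      refine ⟨(σ.φ u : SW ι).e, ?_, ?_⟩
      all_goals
        have hb : (σ.φ u : SW ι).p = 1 ∧ par (σ.φ u : SW ι) = 0 := by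
          rcases huX with rfl | rfl
          · rw [σ.map_x]; exact ⟨rfl, par_cc hev⟩
          · obtain ⟨e1, e2⟩ := hx.image_sq σ.φ D hpP
            rw [map_mul, Subgroup.coe_mul, σ.map_x, mul_p, par_mul, e1, e2, par_cc hev]
            exact ⟨rfl, rfl⟩
      · rw [← eq_base hb.1]; exact hb.2
      · rw [← eq_base hb.1]; exact σ.rel u hu
    -- adjust the signs on the pair
    obtain ⟨z', hzz', hz'p, hz'i, hz'k⟩ : ∃ z' : SW ι, IsConj z z' ∧ z'.p = Equiv.swap i j ∧
        (z'.e i = x.e i ∧ z'.e j = x.e j) ∧ (z'.e k = z.e k ∧ z'.e l = z.e l) := by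
      by_cases hq : z.e i = x.e i
      · exact ⟨z, IsConj.refl _, hzp, ⟨hq, by rw [← hze, hq, hxe]⟩, rfl, rfl⟩
      · refine ⟨z * base (pairVec i j),
          isConj_mul_pair hij (by rw [hzp, Equiv.swap_apply_left])
            (by rw [hzp, Equiv.swap_apply_right]), by simp [hzp], ?_, ?_⟩
        · simp only [mul_e, base_e, hzp, Equiv.swap_inv, Equiv.swap_apply_left,
            Equiv.swap_apply_right, pairVec_apply, true_or, or_true, if_true]
          rw [← hze, ← hxe]
          have hx1 : x.e i = z.e i + 1 := by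
            revert hq
            generalize z.e i = a
            generalize x.e i = b
            revert a b; decide
          exact ⟨hx1.symm, hx1.symm⟩
        · simp [mul_e, hzp, pairVec_apply, Equiv.swap_apply_of_ne_of_ne hki hkj,
            Equiv.swap_apply_of_ne_of_ne hli hlj, hki, hkj, hli, hlj]
    refine A.reduced_trans (A.of_conj hzz hzz') ?_
    have hall : ∀ q : ι, q = i ∨ q = j ∨ q = k ∨ q = l := by
      intro q
      rcases eq_or_ne q i with h1 | h1
      · exact Or.inl h1
      rcases eq_or_ne q j with h2 | h2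
      · exact Or.inr (Or.inl h2)
      exact Or.inr (Or.inr ((hLmem q).mp ⟨h1, h2⟩))
    by_cases hkx : z'.e k = x.e k
    · have : z' = x := by
        refine SW.ext (funext fun q => ?_) (hz'p.trans hxp.symm)
        rcases hall q with rfl | rfl | rfl | rfl
        · exact hz'i.1
        · exact hz'i.2
        · exact hkx
        · rw [hz'k.2, ← hzl, ← hz'k.1, hkx, hxk]
      rw [this]
      exact hcase X (Subtype.ext hxx) (Or.inl rfl)
    · have hflip : z'.e k = x.e k + 1 := by
        revert hkx
        generalize z'.e k = a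
        generalize x.e k = b
        revert a b; decide
      have : z' = x * (d * d) := by
        rw [hd5]
        refine SW.ext (funext fun q => ?_) (by simp [hz'p, hxp])
        rw [mul_e, base_e, hxp, Equiv.swap_inv]
        rcases hall q with rfl | rfl | rfl | rfl
        · simp [Equiv.swap_apply_left, hz'i.1, hkj.symm, hlj.symm]
        · simp [Equiv.swap_apply_right, hz'i.2, hki.symm, hli.symm]
        · simp [Equiv.swap_apply_of_ne_of_ne hki hkj, hflip]
        · rw [hz'k.2, ← hzl, ← hz'k.1, hflip, hxk]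
          simp [Equiv.swap_apply_of_ne_of_ne hli hlj]
      rw [this]
      refine hcase (X * (D * D)) ?_ (Or.inr rfl)
      apply Subtype.ext
      show x * (d * d) * (x * (d * d)) = 1
      obtain ⟨c, hc'⟩ := isConj_iff.mp hzz'
      rw [← this, ← hc', show c * z * c⁻¹ * (c * z * c⁻¹) = c * (z * z) * c⁻¹ by group, hzz]
      group
  -- one exchanged pair
  have hone : ∀ (z : SW ι) (a b : ι), a ≠ b → z.p = Equiv.swap a b → z.e a = z.e b →
      Reduced Rel z := by
    intro z a b hab hzp hze
    have hzz := (IsPair.mk hab hzp hze).mul_self_one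
    obtain ⟨π, h1, h2⟩ := exists_perm_pair (i := i) (j := j) hab hij
    set z1 := perm π * z * (perm π)⁻¹ with hz1
    refine A.reduced_trans (A.of_conj hzz (isConj_iff.mpr ⟨_, hz1.symm⟩)) ?_
    have hz1p : z1.p = Equiv.swap i j := by
      rw [hz1, conj_perm]
      show π * z.p * π⁻¹ = _
      rw [hzp, Equiv.mul_swap_eq_swap_mul, mul_inv_cancel_right, h1, h2]
    have hz1e : z1.e i = z1.e j := by
      simp [hz1, conj_perm, (Equiv.symm_apply_eq _).mpr h1.symm,
        (Equiv.symm_apply_eq _).mpr h2.symm, hze]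
    by_cases hkl' : z1.e k = z1.e l
    · exact hsingle z1 hz1p hz1e hkl'
    -- signs different on the fixed pair
    obtain ⟨U, hU, ⟨τ⟩⟩ := A.odd
    have hUs := card_filter_zero U
    have hUodd : Odd (Finset.univ.filter fun q => U q = 1).card := by
      rw [← ZMod.natCast_eq_one_iff_odd, ← sum_eq_card, ← par_base, hU]
    obtain ⟨l0, hl0⟩ : ∃ l0, ∀ p, p ≠ l0 → U p ≠ U l0 := by
      have : (Finset.univ.filter fun q => U q = 1).card = 1 ∨
          (Finset.univ.filter fun q => U q = 0).card = 1 := by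
        obtain ⟨m, hm⟩ := hUodd; omega
      rcases this with h | h <;> obtain ⟨l0, hl0⟩ := Finset.card_eq_one.mp h <;>
        refine ⟨l0, fun p hp e => hp ?_⟩
      · have h' : U l0 = 1 := by
          have := Finset.ext_iff.mp hl0 l0; simpa using this
        have := Finset.ext_iff.mp hl0 p
        simpa [e, h'] using this
      · have h' : U l0 = 0 := by
          have := Finset.ext_iff.mp hl0 l0; simpa using this
        have := Finset.ext_iff.mp hl0 p
        simpa [e, h'] using this
    obtain ⟨p1, p2, p3, h12, h13, h23, hp⟩ : ∃ p1 p2 p3, p1 ≠ p2 ∧ p1 ≠ p3 ∧ p2 ≠ p3 ∧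
        Finset.univ.erase l0 = ({p1, p2, p3} : Finset ι) :=
      Finset.card_eq_three.mp (by rw [Finset.card_erase_of_mem (Finset.mem_univ _), Finset.card_univ, h4])
    have hp' : ∀ q, q ≠ l0 ↔ (q = p1 ∨ q = p2 ∨ q = p3) := by
      intro q
      have := Finset.ext_iff.mp hp q
      simpa using this
    have hn1 := (hp' p1).mpr (Or.inl rfl)
    have hn2 := (hp' p2).mpr (Or.inr (Or.inl rfl))
    have hn3 := (hp' p3).mpr (Or.inr (Or.inr rfl))
    have hUeq : ∀ p q, p ≠ l0 → q ≠ l0 → U p = U q := by
      intro p q hp hq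
      have a := hl0 p hp
      have b := hl0 q hq
      revert a b
      generalize U p = u
      generalize U q = v
      generalize U l0 = w
      revert u v w; decide
    let w : ι → SW ι := fun r => ⟨Pi.single r 1, Equiv.swap p1 p2⟩
    have hwC : ∀ r, w r ∈ Subgroup.centralizer ({base U} : Set (SW ι)) := by
      intro r
      rw [mem_cent_base]
      intro q
      simp only [w, Equiv.swap_apply_def]
      split_ifs with e1 e2
      · rw [e1]; exact hUeq _ _ hn2 hn1
      · rw [e2]; exact hUeq _ _ hn1 hn2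
      · rfl
    -- both are conjugate to `z1`
    have hconjw : ∀ r, r ≠ p1 → r ≠ p2 → IsConj z1 (w r) := by
      intro r hr1 hr2
      obtain ⟨z2, hc2, hz2p, hz2i, hz2k⟩ : ∃ z2 : SW ι, IsConj z1 z2 ∧ z2.p = Equiv.swap i j ∧
          (z2.e i = 0 ∧ z2.e j = 0) ∧ (z2.e k = z1.e k ∧ z2.e l = z1.e l) := by
        by_cases hq : z1.e i = 0
        · exact ⟨z1, IsConj.refl _, hz1p, ⟨hq, hz1e ▸ hq⟩, rfl, rfl⟩
        · refine ⟨z1 * base (pairVec i j),
            isConj_mul_pair hij (by rw [hz1p, Equiv.swap_apply_left])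
              (by rw [hz1p, Equiv.swap_apply_right]), by simp [hz1p], ?_, ?_⟩
          · simp [hz1p, pairVec_apply, ← hz1e, (z2_cases _).resolve_left hq]
            decide
          · simp [hz1p, pairVec_apply, Equiv.swap_apply_of_ne_of_ne hki hkj,
              Equiv.swap_apply_of_ne_of_ne hli hlj, hki, hkj, hli, hlj]
      obtain ⟨kk, ll, hkk, hll, hkll, hek, hel⟩ : ∃ kk ll, (kk = k ∨ kk = l) ∧ (ll = k ∨ ll = l) ∧
          kk ≠ ll ∧ z2.e kk = 1 ∧ z2.e ll = 0 := by
        rcases z2_cases (z2.e k) with hh | hh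
        · refine ⟨l, k, Or.inr rfl, Or.inl rfl, hkl.symm, ?_, hh⟩
          refine (z2_cases _).resolve_left fun h' => hkl' ?_
          rw [← hz2k.1, ← hz2k.2, hh, h']
        · refine ⟨k, l, Or.inl rfl, Or.inr rfl, hkl, hh, ?_⟩
          refine (z2_cases _).resolve_right fun h' => hkl' ?_
          rw [← hz2k.1, ← hz2k.2, hh, h']
      have hkk' := (hLmem kk).mpr hkk
      have hll' := (hLmem ll).mpr hll
      obtain ⟨ρ, r1, r2, r3⟩ := perm_three hij hkk'.1.symm hkk'.2.symm h12 hr1.symm hr2.symm
      refine hc2.trans (isConj_iff.mpr ⟨perm ρ, ?_⟩)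
      rw [conj_perm]
      refine SW.ext (funext fun q => ?_) ?_
      · obtain ⟨q', rfl⟩ := ρ.surjective q
        simp only [Equiv.Perm.inv_def, Equiv.symm_apply_apply, w, ← r3, Pi.single_apply,
          EmbeddingLike.apply_eq_iff_eq]
        rcases eq_or_ne q' kk with rfl | hq
        · rw [if_pos rfl, hek]
        rw [if_neg hq]
        rcases eq_or_ne q' i with rfl | g1
        · exact hz2i.1
        rcases eq_or_ne q' j with rfl | g2
        · exact hz2i.2
        have : q' = ll := by
          rcases (hLmem q').mp ⟨g1, g2⟩ with e | e <;> rcases hkk with e1 | e1 <;>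
            rcases hll with e2 | e2 <;> simp_all
        rw [this, hel]
      · show ρ * z2.p * ρ⁻¹ = Equiv.swap p1 p2
        rw [hz2p, Equiv.mul_swap_eq_swap_mul, r1, r2, mul_inv_cancel_right]
    have hw_pair : ∀ r, r ≠ p1 → r ≠ p2 → IsPair (w r) p1 p2 := fun r a b =>
      ⟨h12, rfl, by simp [w, Pi.single_eq_of_ne a.symm, Pi.single_eq_of_ne b.symm]⟩
    let C := Subgroup.centralizer ({base U} : Set (SW ι))
    let W : ι → C := fun r => ⟨w r, hwC r⟩
    have hd : (⟨Pi.single p1 1, Equiv.swap p1 p2⟩ : SW ι) ∈ C := hwC p1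
    let D : C := ⟨_, hd⟩
    let K : C := ⟨cc, Subgroup.mem_centralizer_singleton_iff.mpr (cc_comm (base U)).eq⟩
    have hprod : W p3 * W l0 = K * (D * D) := by
      apply Subtype.ext
      ext q
      · simp only [Subgroup.coe_mul, W, D, K, w, mul_e, cc_e, cc_p, inv_one, Equiv.Perm.one_apply,
          Equiv.swap_inv]
        rcases eq_or_ne q l0 with rfl | hq
        · simp [Equiv.swap_apply_of_ne_of_ne hn1.symm hn2.symm, Pi.single_apply, hn1.symm, hn3.symm]
        rcases (hp' q).mp hq with rfl | rfl | rfl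
        · simp [Pi.single_apply, h13, hn1, hn2, h12.symm, z2_add_self]
        · simp [Pi.single_apply, h23, hn1, hn2, h12, h12.symm, z2_add_self]
        · simp [Equiv.swap_apply_of_ne_of_ne h13.symm h23.symm, Pi.single_apply, h13.symm, hq]
      · simp [W, D, K, w]
    obtain ⟨r, hr1, hr2, hparr⟩ : ∃ r, r ≠ p1 ∧ r ≠ p2 ∧ par (τ.φ (W r) : SW ι) = 0 := by
      have e := congrArg (fun q : C => par (τ.φ q : SW ι)) hprod
      have hK : (τ.φ K : SW ι) = base U := τ.map_cc
      rw [map_mul, map_mul, map_mul, Subgroup.coe_mul, Subgroup.coe_mul, Subgroup.coe_mul, par_mul,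
        par_mul, par_mul, hK, hU, z2_add_self, add_zero] at e
      rcases z2_cases (par (τ.φ (W p3) : SW ι)) with a | a
      · exact ⟨p3, h13.symm, h23.symm, a⟩
      · refine ⟨l0, hn1.symm, hn2.symm, ?_⟩
        rw [a] at e
        revert e
        generalize par (τ.φ (W l0) : SW ι) = u
        revert u; decide
    have hWW : W r * W r = 1 := Subtype.ext (hw_pair r hr1 hr2).mul_self_one
    refine A.reduced_trans (A.trans (A.of_conj (IsPair.mk hij hz1p hz1e).mul_self_one
      (hconjw r hr1 hr2)) (τ.rel (W r) hWW)) ?_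
    set y := (τ.φ (W r) : SW ι) with hy
    have hyy : y * y = 1 := by rw [hy, ← Subgroup.coe_mul, ← map_mul, hWW, map_one]; rfl
    have hyl : y.p l0 = l0 := by
      by_contra hne
      exact hl0 _ hne (mem_cent_base.mp (τ.φ (W r)).2 l0)
    by_cases hyp : y.p = 1
    · have := A.reduced_base hev y.e
      rwa [← eq_base hyp] at this
    obtain ⟨hp2, he2⟩ := mul_self_eq_one_iff.mp hyy
    obtain ⟨c, hc'⟩ : ∃ c, y.p c ≠ c := by
      by_contra hcon
      push Not at hcon
      exact hyp (Equiv.ext hcon)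
    have hcc2 : y.p (y.p c) = c := Equiv.ext_iff.mp hp2 c
    have hcl : c ≠ l0 := fun e => hc' (e ▸ hyl)
    have hcl' : y.p c ≠ l0 := fun e => hcl (y.p.injective (e.trans hyl.symm))
    obtain ⟨m, hm, hmc, hmc'⟩ : ∃ m, m ≠ l0 ∧ m ≠ c ∧ m ≠ y.p c := by
      have : ∃ m, m ∉ ({l0, c, y.p c} : Finset ι) := by
        by_contra hcon
        push Not at hcon
        have := (Finset.card_le_card fun q (_ : q ∈ Finset.univ) => hcon q).trans Finset.card_le_three
        rw [Finset.card_univ, h4] at this
        omega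
      obtain ⟨m, hm⟩ := this
      simp only [Finset.mem_insert, Finset.mem_singleton, not_or] at hm
      exact ⟨m, hm⟩
    have hall : ∀ q, q = c ∨ q = y.p c ∨ q = l0 ∨ q = m := by
      have hu : (Finset.univ : Finset ι) = {c, y.p c, l0, m} := by
        refine (Finset.eq_univ_of_card _ ?_).symm
        rw [h4, Finset.card_insert_of_notMem (by simp [Ne.symm hc', hcl, hmc.symm]),
          Finset.card_insert_of_notMem (by simp [hcl', hmc'.symm]), Finset.card_pair hm.symm]
      intro q
      have := Finset.mem_univ q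
      rw [hu] at this
      simpa using this
    have hym : y.p m = m := by
      rcases hall (y.p m) with e | e | e | e
      · exact absurd (y.p.injective (e.trans hcc2.symm)) hmc'
      · exact absurd (y.p.injective e) hmc
      · exact absurd (y.p.injective (e.trans hyl.symm)) hm
      · exact e
    have hswap : y.p = Equiv.swap c (y.p c) := by
      apply Equiv.ext
      intro q
      rcases hall q with rfl | rfl | rfl | rfl
      · rw [Equiv.swap_apply_left]
      · rw [Equiv.swap_apply_right, hcc2]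
      · rw [Equiv.swap_apply_of_ne_of_ne hcl.symm hcl'.symm, hyl]
      · rw [Equiv.swap_apply_of_ne_of_ne hmc hmc', hym]
    -- conjugate to the standard position
    obtain ⟨ρ, r1, r2⟩ := exists_perm_pair (i := i) (j := j) (Ne.symm hc') hij
    set y1 := perm ρ * y * (perm ρ)⁻¹ with hy1
    refine A.reduced_trans (A.of_conj hyy (isConj_iff.mpr ⟨_, hy1.symm⟩)) (hsingle y1 ?_ ?_ ?_)
    · rw [hy1, conj_perm]
      show ρ * y.p * ρ⁻¹ = _
      rw [hswap, Equiv.mul_swap_eq_swap_mul, mul_inv_cancel_right, r1, r2]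
    · simp [hy1, conj_perm, (Equiv.symm_apply_eq _).mpr r1.symm,
        (Equiv.symm_apply_eq _).mpr r2.symm, he2 c]
    · have hsum : par y1 = 0 := by rw [hy1, par_conj, hparr]
      have huniv : (Finset.univ : Finset ι) = {i, j, k, l} := by
        refine (Finset.eq_univ_of_card _ ?_).symm
        rw [h4, Finset.card_insert_of_notMem (by simp [hij, hki.symm, hli.symm]),
          Finset.card_insert_of_notMem (by simp [hkj.symm, hlj.symm]), Finset.card_pair hkl]
      rw [par, huniv, Finset.sum_insert (by simp [hij, hki.symm, hli.symm]),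
        Finset.sum_insert (by simp [hkj.symm, hlj.symm]), Finset.sum_pair hkl] at hsum
      have hee : y1.e i = y1.e j := by
        simp [hy1, conj_perm, (Equiv.symm_apply_eq _).mpr r1.symm,
          (Equiv.symm_apply_eq _).mpr r2.symm, he2 c]
      rw [← hee, ← add_assoc, z2_add_self, zero_add] at hsum
      exact z2_add_eq_zero hsum
  intro z hz
  by_cases hzp : z.p = 1
  · have := A.reduced_base hev z.e
    rwa [← eq_base hzp] at this
  obtain ⟨z', hzz', hz', hi, hj, he, -⟩ := exists_conj_pair hij hz hzp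
  obtain ⟨v, hv, hzv, hvp, hfi, hfj⟩ := A.step hev hx hpar σ hz' hi hj he
  refine A.reduced_trans (A.trans (A.of_conj hz (hzz'.trans hzv)) (σ.rel v hv)) ?_
  set y := (σ.φ v : SW ι) with hy
  have hyy : y * y = 1 := by rw [hy, ← Subgroup.coe_mul, ← map_mul, hv, map_one]; rfl
  by_cases hyp : y.p = 1
  · have := A.reduced_base hev y.e
    rwa [← eq_base hyp] at this
  obtain ⟨hp2, he2⟩ := mul_self_eq_one_iff.mp hyy
  have hmem : ∀ q, q ≠ i → q ≠ j → y.p q ≠ i ∧ y.p q ≠ j := fun q a b =>
    ⟨fun e => a (y.p.injective (e.trans hfi.symm)), fun e => b (y.p.injective (e.trans hfj.symm))⟩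
  have hk : y.p k = l ∧ y.p l = k := by
    rcases (hLmem (y.p k)).mp (hmem k hki hkj) with e | e
    · exfalso
      apply hyp
      apply Equiv.ext
      intro q
      rcases eq_or_ne q i with rfl | g1
      · rw [hfi]; rfl
      rcases eq_or_ne q j with rfl | g2
      · rw [hfj]; rfl
      rcases (hLmem q).mp ⟨g1, g2⟩ with rfl | rfl
      · rw [e]; rfl
      · rcases (hLmem (y.p q)).mp (hmem q g1 g2) with e' | e'
        · exact absurd (y.p.injective (e'.trans e.symm)) hkl.symm
        · rw [e']; rfl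
    · exact ⟨e, by rw [← e]; exact Equiv.ext_iff.mp hp2 k⟩
  refine hone y k l hkl ?_ ((he2 k).symm.trans (by rw [hk.1]))
  apply Equiv.ext
  intro q
  rcases eq_or_ne q i with rfl | g1
  · rw [hfi, Equiv.swap_apply_of_ne_of_ne hki.symm hli.symm]
  rcases eq_or_ne q j with rfl | g2
  · rw [hfj, Equiv.swap_apply_of_ne_of_ne hkj.symm hlj.symm]
  rcases (hLmem q).mp ⟨g1, g2⟩ with rfl | rfl
  · rw [hk.1, Equiv.swap_apply_left]
  · rw [hk.2, Equiv.swap_apply_right]

/-- Every involution is fused to an element of the base of even weight. -/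
theorem Ax.reduced (A : Ax Rel) (hev : Even (Fintype.card ι)) (z : SW ι) (hz : z * z = 1) :
    Reduced Rel z := by
  by_cases h4 : Fintype.card ι = 4
  · exact A.reduced_of_card_four h4 z hz
  · exact A.reduced_of_card_ne hev h4 z hz

end Cfsg.Agent.Kondo
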