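import Cfsg.Agent.Lib.Kondo.Swap

/-!
# Every involution is fused to one of the base
-/

set_option autoImplicit false
set_option linter.style.haveILetI false

namespace Cfsg.Agent.Kondo

open SW

variable {ι : Type} [Fintype ι] [DecidableEq ι]

/-- The indicator vector of a finset. -/
def indv (V : Finset ι) : ι → ZMod 2 := fun i => if i ∈ V then 1 else 0

omit [Fintype ι] in
theorem indv_apply (V : Finset ι) (i : ι) : indv V i = if i ∈ V then 1 else 0 := rfl

omit [DecidableEq ι] in
theorem sum_eq_card (U : ι → ZMod 2) :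
    ∑ i, U i = ((Finset.univ.filter fun i => U i = 1).card : ZMod 2) := by
  rw [Finset.natCast_card_filter]
  refine Finset.sum_congr rfl fun i _ => ?_
  rcases z2_cases (U i) with h | h <;> simp [h]

omit [DecidableEq ι] in
theorem card_filter_zero (U : ι → ZMod 2) :
    (Finset.univ.filter fun i => U i = 1).card + (Finset.univ.filter fun i => U i = 0).card =
      Fintype.card ι := by
  have h : (Finset.univ.filter fun i => U i = 0) =
      Finset.univ.filter fun i => ¬ U i = 1 := by
    ext i
    simp only [Finset.mem_filter, Finset.mem_univ, true_and]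
    rcases z2_cases (U i) with h | h <;> simp [h]
  rw [h, Finset.card_filter_add_card_filter_not, Finset.card_univ]

theorem par_indv (V : Finset ι) : par (base (indv V)) = (V.card : ZMod 2) := by
  rw [par_base, sum_eq_card]
  congr 2
  ext i
  simp [indv]

omit [Fintype ι] in
theorem conj_perm (π : Equiv.Perm ι) (a : SW ι) :
    perm π * a * (perm π)⁻¹ = ⟨fun k => a.e (π⁻¹ k), π * a.p * π⁻¹⟩ := by
  ext k <;> simp

omit [Fintype ι] in
theorem perm_three {i j k p q r : ι} (hij : i ≠ j) (hik : i ≠ k) (hjk : j ≠ k) (hpq : p ≠ q)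
    (hpr : p ≠ r) (hqr : q ≠ r) : ∃ π : Equiv.Perm ι, π i = p ∧ π j = q ∧ π k = r := by
  let a : Equiv.Perm ι := Equiv.swap i p
  let b : Equiv.Perm ι := Equiv.swap (a j) q
  let c : Equiv.Perm ι := Equiv.swap (b (a k)) r
  have hai : a i = p := Equiv.swap_apply_left i p
  have hbj : b (a j) = q := Equiv.swap_apply_left _ q
  have hbi : b p = p := Equiv.swap_apply_of_ne_of_ne
    (fun h => hij (a.injective (hai.trans h))) hpq
  refine ⟨c * b * a, ?_, ?_, Equiv.swap_apply_left _ r⟩
  · show c (b (a i)) = p
    rw [hai, hbi]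
    exact Equiv.swap_apply_of_ne_of_ne (fun h => hik (a.injective (b.injective
      ((congrArg b hai).trans (hbi.trans h))))) hpr
  · show c (b (a j)) = q
    rw [hbj]
    exact Equiv.swap_apply_of_ne_of_ne (fun h => hjk (a.injective (b.injective (hbj.trans h)))) hqr

omit [Fintype ι] in
/-- An element all of whose conjugates commute moves no point to a third one. -/
theorem fix_of_conj_comm {H : Subgroup (SW ι)} {a h : SW ι} (ha : a ∈ H)
    (hcomm : ∀ u ∈ H, ∀ v ∈ H, Commute (u * a * u⁻¹) (v * a * v⁻¹))
    {i : ι} (hπ : base (Pi.single i 1) ∈ H) (hh : h ∈ H) (hhi : h.p i = i)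
    (hne : a.p i ≠ i) (hq : h.p (a.p i) ≠ a.p i) : False := by
  set k := a.p i with hk
  have hqi : h.p k ≠ i := fun h' => hne (h.p.injective (h'.trans hhi.symm))
  set π := base (Pi.single i (1 : ZMod 2)) with hπd
  have hw : π * a * π⁻¹ * a⁻¹ = base (Pi.single i 1 + Pi.single k 1) := by
    rw [show π⁻¹ = π from inv_eq_of_mul_eq_one_right (base_mul_self _), mul_assoc, mul_assoc,
      ← mul_assoc a, conj_base, hπd, base_mul]
    congr 2
    funext l
    simp only [Equiv.Perm.inv_def, Pi.single_apply, Equiv.symm_apply_eq, ← hk]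
  have h1 : Commute (π * a * π⁻¹) (h * a * h⁻¹) := hcomm _ hπ _ hh
  have h2 : Commute a (h * a * h⁻¹) := by
    have := hcomm 1 (one_mem H) _ hh
    simpa using this
  have h3 : Commute (h * a * h⁻¹) (base (Pi.single i 1 + Pi.single k 1)) := by
    rw [← hw]; exact h1.symm.mul_right h2.inv_left.symm
  have h4 := commute_base_iff.mp h3 i
  have h5 : (h * a * h⁻¹).p i = h.p k := by
    have : h.p⁻¹ i = i := Equiv.Perm.inv_eq_iff_eq.mpr hhi.symm
    simp only [mul_p, inv_p, Equiv.Perm.mul_apply, this, hk]
  rw [h5] at h4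
  simp [hqi, hq, hne.symm] at h4

/-- The axioms of fusion. -/
structure Ax (Rel : SW ι → SW ι → Prop) : Prop where
  symm : ∀ {x y}, Rel x y → Rel y x
  trans : ∀ {x y z}, Rel x y → Rel y z → Rel x z
  of_conj : ∀ {x y}, x * x = 1 → IsConj x y → Rel x y
  rigid : ∀ U : ι → ZMod 2, par (base U) = 0 → Rel (base U) cc → U = 1
  odd : ∃ U : ι → ZMod 2, par (base U) = 1 ∧ Nonempty (Swap Rel (base U))
  swp : ∃ x : SW ι, ∃ i j : ι, i ≠ j ∧ x.p = Equiv.swap i j ∧ x.e i = x.e j ∧ par x = 0 ∧
    Nonempty (Swap Rel x)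

/-- `z` is fused to an element of the base of even weight. -/
def Reduced (Rel : SW ι → SW ι → Prop) (z : SW ι) : Prop :=
  ∃ V : ι → ZMod 2, par (base V) = 0 ∧ Rel z (base V)

variable {Rel : SW ι → SW ι → Prop}

theorem Ax.reduced_trans (A : Ax Rel) {y z : SW ι} (h : Rel y z) (hz : Reduced Rel z) :
    Reduced Rel y := by
  obtain ⟨V, hV, hzV⟩ := hz
  exact ⟨V, hV, A.trans h hzV⟩

theorem par_cc (hev : Even (Fintype.card ι)) : par (cc : SW ι) = 0 := by
  obtain ⟨n, hn⟩ := hev
  rw [par, Finset.sum_congr rfl (fun i _ => cc_e i), Finset.sum_const, Finset.card_univ, nsmul_one,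
    hn, Nat.cast_add, z2_add_self]

/-! ## The base -/

theorem third_of_odd {U : ι → ZMod 2} (hev : Even (Fintype.card ι)) (hU : par (base U) = 1)
    {i k : ι} (hne : k ≠ i) (hk : U k = U i) : ∃ q, U q = U i ∧ q ≠ i ∧ q ≠ k := by
  by_contra hcon
  push Not at hcon
  have h2 : (Finset.univ.filter fun l => U l = U i).card = 2 := by
    have : (Finset.univ.filter fun l => U l = U i) = {i, k} := by
      ext l
      simp only [Finset.mem_filter, Finset.mem_univ, true_and, Finset.mem_insert,
        Finset.mem_singleton]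
      refine ⟨fun h => (em (l = i)).imp id (hcon l h), ?_⟩
      rintro (rfl | rfl)
      · rfl
      · exact hk
    rw [this, Finset.card_pair hne.symm]
  have h1 : ((Finset.univ.filter fun l => U l = 1).card : ZMod 2) = 1 := by
    rw [← sum_eq_card, ← par_base, hU]
  rw [ZMod.natCast_eq_one_iff_odd] at h1
  have hsum := card_filter_zero U
  obtain ⟨m, hm⟩ := h1
  obtain ⟨n, hn⟩ := hev
  rcases z2_cases (U i) with h | h <;> rw [h] at h2 <;> omega

omit [Fintype ι] in
theorem mem_cent_base {U : ι → ZMod 2} {a : SW ι} :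
    a ∈ Subgroup.centralizer ({base U} : Set (SW ι)) ↔ ∀ i, U (a.p i) = U i :=
  Subgroup.mem_centralizer_singleton_iff.trans commute_base_iff

theorem base_preserved {U : ι → ZMod 2} (hev : Even (Fintype.card ι)) (hU : par (base U) = 1)
    (φ : ↥(Subgroup.centralizer ({base U} : Set (SW ι))) ≃*
      ↥(Subgroup.centralizer ({base U} : Set (SW ι))))
    (v : ↥(Subgroup.centralizer ({base U} : Set (SW ι)))) (hv : (v : SW ι).p = 1) :
    (φ v : SW ι).p = 1 := by
  apply Equiv.ext
  intro i
  by_contra hne
  rw [Equiv.Perm.one_apply] at hne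
  have hk : U ((φ v : SW ι).p i) = U i := mem_cent_base.mp (φ v).2 i
  obtain ⟨q, hq, hqi, hqk⟩ := third_of_odd hev hU hne hk
  have hh : perm (Equiv.swap ((φ v : SW ι).p i) q) ∈
      Subgroup.centralizer ({base U} : Set (SW ι)) := by
    rw [mem_cent_base]
    intro l
    simp only [perm_p, Equiv.swap_apply_def]
    split_ifs with h1 h2
    · rw [h1, hk, hq]
    · rw [h2, hk, hq]
    · rfl
  have hπ : base (Pi.single i 1) ∈ Subgroup.centralizer ({base U} : Set (SW ι)) :=
    mem_cent_base.mpr fun l => rfl
  refine fix_of_conj_comm (φ v).2 (fun u hu w hw => ?_) hπ hh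
    (Equiv.swap_apply_of_ne_of_ne (Ne.symm hne) hqi.symm) hne ?_
  · obtain ⟨u', hu'⟩ := φ.surjective ⟨u, hu⟩
    obtain ⟨w', hw'⟩ := φ.surjective ⟨w, hw⟩
    have hc : Commute (u' * v * u'⁻¹) (w' * v * w'⁻¹) := by
      apply Subtype.ext
      simp only [Subgroup.coe_mul, InvMemClass.coe_inv]
      rw [eq_base (show ((u' : SW ι) * v * (u' : SW ι)⁻¹).p = 1 by simp [hv]),
        eq_base (show ((w' : SW ι) * v * (w' : SW ι)⁻¹).p = 1 by simp [hv]), base_mul, base_mul,
        add_comm]
    have h2 := (hc.map φ.toMonoidHom).map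
      (Subgroup.centralizer ({base U} : Set (SW ι))).subtype
    simpa [hu', hw'] using h2
  · rw [perm_p, Equiv.swap_apply_left]; exact hqk

/-- Elements of the base are fused to elements of even weight. -/
theorem Ax.reduced_base (A : Ax Rel) (hev : Even (Fintype.card ι)) (T : ι → ZMod 2) :
    Reduced Rel (base T) := by
  rcases z2_cases (par (base T)) with h0 | h1
  · exact ⟨T, h0, A.of_conj (base_mul_self T) (IsConj.refl _)⟩
  obtain ⟨U, hU, ⟨σ⟩⟩ := A.odd
  have hsum := card_filter_zero U
  have hsumT := card_filter_zero T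
  set m := (Finset.univ.filter fun l => T l = 1).card with hm
  set SA := Finset.univ.filter fun l => U l = 1 with hSA
  set SB := Finset.univ.filter fun l => U l = 0 with hSB
  have hmodd : Odd m := by rw [← ZMod.natCast_eq_one_iff_odd, hm, ← sum_eq_card, ← par_base, h1]
  have haodd : Odd SA.card := by
    rw [← ZMod.natCast_eq_one_iff_odd, hSA, ← sum_eq_card, ← par_base, hU]
  obtain ⟨V, hVeven, T', hT', hTV⟩ : ∃ V : Finset ι, (∀ k, Even (V.filter fun l => U l = k).card) ∧
      ∃ T' : Finset ι, T'.card = m ∧ indv T' = U + indv V := by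
    obtain ⟨a', ha'⟩ := haodd
    obtain ⟨m', hm'⟩ := hmodd
    by_cases hle : m ≤ SA.card
    · obtain ⟨T', hsub, hcard⟩ := Finset.exists_subset_card_eq hle
      refine ⟨SA \ T', fun k => ?_, T', hcard, funext fun l => ?_⟩
      · rcases z2_cases k with rfl | rfl
        · refine ⟨0, Finset.card_eq_zero.mpr (Finset.filter_eq_empty_iff.mpr fun {l} hl h => ?_)⟩
          rw [hSA, Finset.mem_sdiff, Finset.mem_filter, h] at hl
          exact zero_ne_one hl.1.2
        · rw [Finset.filter_true_of_mem (fun l hl => by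
            rw [hSA, Finset.mem_sdiff, Finset.mem_filter] at hl; exact hl.1.2),
            Finset.card_sdiff_of_subset hsub, hcard]
          exact ⟨a' - m', by omega⟩
      · simp only [indv, Pi.add_apply, Finset.mem_sdiff]
        by_cases hl : l ∈ T'
        · have := hsub hl
          simp only [hSA, Finset.mem_filter] at this
          simp [hl, this.2]
        · rcases z2_cases (U l) with h | h <;> simp [hl, h, hSA, z2_add_self]
    · have hle2 : m - SA.card ≤ SB.card := by omega
      obtain ⟨V, hsub, hcard⟩ := Finset.exists_subset_card_eq hle2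
      have hd : Disjoint SA V := by
        rw [Finset.disjoint_left]
        intro l hl hl'
        have h' := hsub hl'
        simp only [hSA, hSB, Finset.mem_filter] at hl h'
        rw [hl.2] at h'
        exact zero_ne_one h'.2.symm
      refine ⟨V, fun k => ?_, SA ∪ V,
        by rw [Finset.card_union_of_disjoint hd, hcard]; omega, funext fun l => ?_⟩
      · rcases z2_cases k with rfl | rfl
        · rw [Finset.filter_true_of_mem (fun l hl => by
            have := hsub hl; simp only [hSB, Finset.mem_filter] at this; exact this.2), hcard]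
          exact ⟨m' - a', by omega⟩
        · refine ⟨0, Finset.card_eq_zero.mpr (Finset.filter_eq_empty_iff.mpr fun {l} hl h => ?_)⟩
          have := hsub hl
          simp only [hSB, Finset.mem_filter, h] at this
          exact one_ne_zero this.2
      · simp only [indv, Pi.add_apply, Finset.mem_union]
        by_cases hl : l ∈ V
        · have := hsub hl
          simp only [hSB, Finset.mem_filter] at this
          simp [hl, this.2]
        · rcases z2_cases (U l) with h | h <;> simp [hl, h, hSA]
  -- `base T` is conjugate to `base T'`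
  have hconj : IsConj (base T) (base (indv T')) := by
    let e : {l // T l = 1} ≃ {l // l ∈ T'} := Fintype.equivOfCardEq (by
      rw [Fintype.card_subtype, Fintype.card_coe, hT'])
    refine isConj_iff.mpr ⟨perm e.extendSubtype, ?_⟩
    rw [conj_base]
    congr 1
    funext l
    obtain ⟨l', rfl⟩ := e.extendSubtype.surjective l
    simp only [perm_p, Equiv.Perm.inv_def, Equiv.symm_apply_apply, indv]
    by_cases hl : T l' = 1
    · rw [if_pos (e.extendSubtype_mem l' hl), hl]
    · rw [if_neg (e.extendSubtype_not_mem l' hl)]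
      exact (z2_cases (T l')).resolve_right hl
  refine A.reduced_trans (A.of_conj (base_mul_self T) hconj) ?_
  obtain ⟨d, hd1, hd2, -, -, hd5⟩ := exists_root U V.card V rfl hVeven
  have hdC : d ∈ Subgroup.centralizer ({base U} : Set (SW ι)) := mem_cent_base.mpr hd1
  let X : ↥(Subgroup.centralizer ({base U} : Set (SW ι))) :=
    ⟨base U, Subgroup.mem_centralizer_singleton_iff.mpr rfl⟩
  let D : ↥(Subgroup.centralizer ({base U} : Set (SW ι))) := ⟨d, hdC⟩
  have hval : ((X * (D * D) : ↥(Subgroup.centralizer ({base U} : Set (SW ι)))) : SW ι) =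
      base (indv T') := by
    rw [hTV]
    show base U * (d * d) = _
    rw [hd5, base_mul]
    rfl
  have hinv : (X * (D * D)) * (X * (D * D)) = 1 :=
    Subtype.ext (by rw [Subgroup.coe_mul, hval, base_mul_self]; rfl)
  have hrel := σ.rel _ hinv
  rw [hval] at hrel
  have himg : (σ.φ (X * (D * D)) : SW ι) = cc * ((σ.φ D : SW ι) * (σ.φ D : SW ι)) := by
    rw [map_mul, map_mul, Subgroup.coe_mul, Subgroup.coe_mul, σ.map_x]
  have hp : (σ.φ (X * (D * D)) : SW ι).p = 1 :=
    base_preserved hev hU σ.φ _ (by rw [hval]; rfl)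
  refine ⟨(σ.φ (X * (D * D)) : SW ι).e, ?_, ?_⟩
  · rw [← eq_base hp, himg, par_mul, par_cc hev, par_mul_self, add_zero]
  · rwa [← eq_base hp]

end Cfsg.Agent.Kondo
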