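import Cfsg.Agent.Lib.Kondo.Wreath
import Mathlib.GroupTheory.IndexNormal

/-!
# Largest 2-subgroups in `2 ≀ Sym ι`
-/

set_option autoImplicit false
set_option linter.style.haveILetI false

namespace Cfsg.Agent.Kondo

section General

variable {G : Type*} [Group G]

/-- `R` is a 2-subgroup of `H` of the largest order. -/
def IsMax2 (R H : Subgroup G) : Prop :=
  R ≤ H ∧ IsPGroup 2 R ∧ ∀ Q : Subgroup G, Q ≤ H → IsPGroup 2 Q → Nat.card Q ≤ Nat.card R

/-- `z` lies in the centre of `R`. -/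
def InCtr (R : Subgroup G) (z : G) : Prop := z ∈ R ∧ ∀ a ∈ R, Commute a z

/-- The number of square roots of `z` in `R`. -/
noncomputable def rts (R : Subgroup G) (z : G) : ℕ := Nat.card {b : R // (b : G) * b = z}

theorem IsMax2.eq_of_le [Finite G] {R H Q : Subgroup G} (h : IsMax2 R H) (hQH : Q ≤ H)
    (hQ : IsPGroup 2 Q) (hle : R ≤ Q) : Q = R :=
  (Subgroup.eq_of_le_of_card_ge hle (h.2.2 Q hQH hQ)).symm

theorem exists_max2 [Finite G] (H P : Subgroup G) (hPH : P ≤ H) (hP : IsPGroup 2 P) :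
    ∃ R, P ≤ R ∧ IsMax2 R H := by
  haveI : Fact (Nat.Prime 2) := ⟨Nat.prime_two⟩
  obtain ⟨S, hS⟩ := (hP.comap_of_injective H.subtype H.subtype_injective).exists_le_sylow
  refine ⟨(S : Subgroup H).map H.subtype, fun x hx => ⟨⟨x, hPH hx⟩, hS hx, rfl⟩,
    Subgroup.map_subtype_le _, S.isPGroup'.map _, fun Q hQH hQ => ?_⟩
  obtain ⟨T, hT⟩ := (hQ.comap_of_injective H.subtype H.subtype_injective).exists_le_sylow
  rw [Subgroup.card_map_of_injective H.subtype_injective,
    ← Nat.card_congr (Subgroup.subgroupOfEquivOfLe hQH).toEquiv,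
    Sylow.card_eq_multiplicity S, ← Sylow.card_eq_multiplicity T]
  exact Subgroup.card_le_of_le hT

theorem IsMax2.conj [Finite G] {R R' H : Subgroup G} (h : IsMax2 R H) (h' : IsMax2 R' H) :
    ∃ k ∈ H, R.map (MulAut.conj k).toMonoidHom = R' := by
  haveI : Fact (Nat.Prime 2) := ⟨Nat.prime_two⟩
  obtain ⟨S, hS⟩ := (h.2.1.comap_of_injective H.subtype H.subtype_injective).exists_le_sylow
  obtain ⟨T, hT⟩ := (h'.2.1.comap_of_injective H.subtype H.subtype_injective).exists_le_sylow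
  have e1 : (S : Subgroup H).map H.subtype = R := by
    refine h.eq_of_le (Subgroup.map_subtype_le _) (S.isPGroup'.map _) ?_
    exact fun x hx => ⟨⟨x, h.1 hx⟩, hS hx, rfl⟩
  have e2 : (T : Subgroup H).map H.subtype = R' := by
    refine h'.eq_of_le (Subgroup.map_subtype_le _) (T.isPGroup'.map _) ?_
    exact fun x hx => ⟨⟨x, h'.1 hx⟩, hT hx, rfl⟩
  obtain ⟨k, hk⟩ := MulAction.exists_smul_eq H S T
  refine ⟨k, k.2, ?_⟩
  rw [← e1, ← e2, ← hk, Sylow.coe_subgroup_smul, Subgroup.map_map]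
  ext x
  simp only [Subgroup.mem_map]
  constructor
  · rintro ⟨y, hy, rfl⟩
    exact ⟨k * y * k⁻¹, ⟨y, hy, rfl⟩, by simp⟩
  · rintro ⟨z, ⟨y, hy, rfl⟩, rfl⟩
    exact ⟨y, hy, by simp⟩

theorem IsMax2.le_of_normalized [Finite G] {R H N : Subgroup G} (h : IsMax2 R H) (hNH : N ≤ H)
    (hN : IsPGroup 2 N) (hnorm : ∀ a ∈ H, ∀ x ∈ N, a * x * a⁻¹ ∈ N) : N ≤ R := by
  have hle : R ≤ Subgroup.normalizer (N : Set G) := by
    intro a ha
    rw [Subgroup.mem_normalizer_iff]
    refine fun x => ⟨fun hx => hnorm a (h.1 ha) x hx, fun hx => ?_⟩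
    have h1 := hnorm a⁻¹ (H.inv_mem (h.1 ha)) _ hx
    have h2 : a⁻¹ * (a * x * a⁻¹) * a⁻¹⁻¹ = x := by group
    rwa [h2] at h1
  have hp : IsPGroup 2 (R ⊔ N : Subgroup G) := h.2.1.to_sup_of_normal_right' hN hle
  have := h.eq_of_le (sup_le h.1 hNH) hp le_sup_left
  rw [← this]; exact le_sup_right

theorem exists_normalizer_step [Finite G] {P Q : Subgroup G} (hPQ : P ≤ Q) (hQ : IsPGroup 2 Q)
    (hlt : Nat.card P < Nat.card Q) :
    ∃ g ∈ Q, g ∉ P ∧ g * g ∈ P ∧ ∀ x ∈ P, g * x * g⁻¹ ∈ P := by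
  haveI : Fact (Nat.Prime 2) := ⟨Nat.prime_two⟩
  obtain ⟨a, ha⟩ := IsPGroup.iff_card.mp hQ
  obtain ⟨b, hb⟩ := IsPGroup.iff_card.mp (hQ.to_le hPQ)
  have hba : b + 1 ≤ a := by
    rw [ha, hb] at hlt
    exact (Nat.pow_lt_pow_iff_right (by norm_num)).mp hlt
  have hPc : Nat.card (P.subgroupOf Q) = 2 ^ b := by
    rw [Nat.card_congr (Subgroup.subgroupOfEquivOfLe hPQ).toEquiv, hb]
  obtain ⟨K, hK, hKle⟩ := Sylow.exists_subgroup_card_pow_prime_le 2
    (m := b + 1) (n := b) (by rw [ha]; exact pow_dvd_pow 2 hba) (P.subgroupOf Q) hPc (by omega)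
  have hidx : (P.subgroupOf Q).relIndex K = 2 := by
    have h1 := Subgroup.card_mul_index ((P.subgroupOf Q).subgroupOf K)
    rw [Nat.card_congr (Subgroup.subgroupOfEquivOfLe hKle).toEquiv, hPc, hK, pow_succ] at h1
    exact Nat.eq_of_mul_eq_mul_left (by positivity) h1
  obtain ⟨g, hgK, hgP⟩ : ∃ g ∈ K, g ∉ P.subgroupOf Q := by
    by_contra hcon
    push Not at hcon
    rw [Subgroup.relIndex, Subgroup.subgroupOf_eq_top.mpr hcon, Subgroup.index_top] at hidx
    exact absurd hidx (by norm_num)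
  haveI : ((P.subgroupOf Q).subgroupOf K).Normal :=
    Subgroup.normal_of_index_eq_two hidx
  refine ⟨g, g.2, fun h => hgP (Subgroup.mem_subgroupOf.mpr h), ?_, fun x hx => ?_⟩
  · have h1 := Subgroup.mul_self_mem_of_index_two hidx (⟨g, hgK⟩ : K)
    simpa [Subgroup.mem_subgroupOf] using h1
  · have h1 := Subgroup.Normal.conj_mem (H := (P.subgroupOf Q).subgroupOf K) inferInstance
      ⟨⟨x, hPQ hx⟩, hKle (Subgroup.mem_subgroupOf.mpr hx)⟩
      (by simp only [Subgroup.mem_subgroupOf]; exact hx) (⟨g, hgK⟩ : K)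
    simpa [Subgroup.mem_subgroupOf] using h1

theorem InCtr.map {G' : Type*} [Group G'] {R : Subgroup G} {R' : Subgroup G'} (ψ : R ≃* R')
    {z : R} (h : InCtr R (z : G)) : InCtr R' ((ψ z : R') : G') := by
  refine ⟨(ψ z).2, fun a ha => ?_⟩
  have h1 : Commute (ψ.symm ⟨a, ha⟩) z := Subtype.ext (h.2 _ (ψ.symm ⟨a, ha⟩).2).eq
  have h2 := h1.map ψ.toMonoidHom
  rw [MulEquiv.coe_toMonoidHom, MulEquiv.apply_symm_apply] at h2
  exact congrArg Subtype.val h2.eq

theorem rts_congr {G' : Type*} [Group G'] {R : Subgroup G} {R' : Subgroup G'} (ψ : R ≃* R')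
    (z : R) : rts R (z : G) = rts R' ((ψ z : R') : G') := by
  refine Nat.card_congr (Equiv.subtypeEquiv ψ.toEquiv fun b => ?_)
  show (b : G) * b = z ↔ ((ψ b : R') : G') * (ψ b : R') = ((ψ z : R') : G')
  rw [← Subgroup.coe_mul, ← Subgroup.coe_mul, Subtype.coe_inj, Subtype.coe_inj, ← map_mul,
    EmbeddingLike.apply_eq_iff_eq]

end General

namespace SW

variable {ι : Type} [Fintype ι] [DecidableEq ι]

/-- `R` contains the base, a square root of `cc`, and restrictions of its permutations. -/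
structure Good (R : Subgroup (SW ι)) : Prop where
  base_mem : ∀ v : ι → ZMod 2, base v ∈ R
  root : ∃ v ∈ R, v * v = (cc : SW ι)
  split : ∀ U : ι → ZMod 2, (∀ a ∈ R, ∀ i, U (a.p i) = U i) → ∀ a ∈ R,
    ∃ b ∈ R, ∀ i, (U i = 1 → b.p i = a.p i) ∧ (U i = 0 → b.p i = i)

omit [Fintype ι] in
theorem p_eq_one_of_commute {z : SW ι} (h : ∀ v : ι → ZMod 2, Commute z (base v)) : z.p = 1 := by
  apply Equiv.ext
  intro i
  by_contra hne
  have := (commute_base_iff.mp (h (Pi.single i 1))) i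
  rw [Equiv.Perm.one_apply] at hne
  rw [Pi.single_eq_same, Pi.single_eq_of_ne hne] at this
  exact zero_ne_one this

omit [DecidableEq ι] in
theorem root_spec {v : SW ι} (hv : v * v = (cc : SW ι)) :
    v.p * v.p = 1 ∧ ∀ i, v.e i + v.e (v.p i) = 1 := by
  have hp : v.p * v.p = 1 := congrArg SW.p hv
  refine ⟨hp, fun i => ?_⟩
  have h1 := congrArg (fun x : SW ι => x.e i) hv
  simpa [inv_eq_of_mul_eq_one_right hp] using h1

theorem Good.cc_mem {R : Subgroup (SW ι)} (hR : Good R) : InCtr R (cc : SW ι) :=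
  ⟨hR.base_mem 1, fun a _ => (cc_comm a).symm⟩

theorem Good.ctr {R : Subgroup (SW ι)} (hR : Good R) {z : SW ι} (hz : InCtr R z) :
    z.p = 1 ∧ par z = 0 ∧ (z ≠ cc → rts R (cc : SW ι) < rts R z) := by
  classical
  have hzp : z.p = 1 := p_eq_one_of_commute fun v => ((hz.2 _ (hR.base_mem v)).symm)
  have hzb : z = base z.e := eq_base hzp
  set U := z.e with hU
  have hinv : ∀ a ∈ R, ∀ i, U (a.p i) = U i := by
    intro a ha
    exact commute_base_iff.mp (hzb ▸ hz.2 a ha)
  obtain ⟨v, hvR, hv⟩ := hR.root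
  obtain ⟨hvp, hve⟩ := root_spec hv
  obtain ⟨b, hbR, hb⟩ := hR.split U hinv v hvR
  let w : SW ι := ⟨fun i => if U i = 1 then v.e i else 0, b.p⟩
  have hwR : w ∈ R := by
    have : w = base (fun i => w.e i + b.e i) * b := by
      ext i <;> simp [w, add_assoc, z2_add_self]
    rw [this]
    exact mul_mem (hR.base_mem _) hbR
  have hwp : b.p * b.p = 1 := by
    apply Equiv.ext
    intro i
    rw [Equiv.Perm.mul_apply, Equiv.Perm.one_apply]
    rcases z2_cases (U i) with h | h
    · rw [(hb i).2 h, (hb i).2 h]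
    · rw [(hb i).1 h, (hb _).1 (by rw [hinv v hvR, h]), ← Equiv.Perm.mul_apply, hvp,
        Equiv.Perm.one_apply]
  have hww : w * w = z := by
    rw [hzb]
    ext i
    · simp only [mul_e, base_e, w, inv_eq_of_mul_eq_one_right hwp]
      rcases z2_cases (U i) with h | h
      · rw [(hb i).2 h, h]; simp
      · rw [(hb i).1 h, hinv v hvR i, h]; simp [hve i]
    · simp only [mul_p, w, base_p, hwp]
  refine ⟨hzp, by rw [← hww, par_mul_self], fun hne => ?_⟩
  obtain ⟨i0, hi0⟩ : ∃ i, U i = 0 := by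
    by_contra hcon
    push Not at hcon
    refine hne (hzb.trans ?_)
    ext i
    · simpa using (z2_cases (U i)).resolve_left (hcon i)
    · rfl
  let D : Equiv.Perm ι → ι → ZMod 2 := fun π =>
    if h : ∃ d : ι → ZMod 2, ∀ i, d i + d (π i) = 1 then h.choose else 0
  have hD : ∀ x : SW ι, x * x = cc → ∀ i, D x.p i + D x.p (x.p i) = 1 := by
    intro x hx
    have h : ∃ d : ι → ZMod 2, ∀ i, d i + d (x.p i) = 1 := ⟨x.e, (root_spec hx).2⟩
    simp only [D, dif_pos h]
    exact h.choose_spec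
  let δ : Equiv.Perm ι → ι → ZMod 2 := fun π i => if U i = 1 then 0 else D π i
  let F : {x : R // (x : SW ι) * (x : SW ι) = (cc : SW ι)} → {x : R // (x : SW ι) * (x : SW ι) = z} := fun x =>
    ⟨⟨base (δ (x.1 : SW ι).p) * (x.1 : SW ι), mul_mem (hR.base_mem _) x.1.2⟩, by
      obtain ⟨hp, he⟩ := root_spec x.2
      have hd := hD _ x.2
      have hi := hinv _ x.1.2
      rw [hzb]
      ext i
      · simp only [mul_e, mul_p, base_e, base_p, inv_one, Equiv.Perm.one_apply, one_mul,
          inv_eq_of_mul_eq_one_right hp, δ, hi i]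
        rcases z2_cases (U i) with h | h
        · rw [h]
          simp only [if_neg (show ¬ (0 : ZMod 2) = 1 from by decide)]
          rw [add_add_add_comm, hd i, he i]; decide
        · rw [h]
          simp only [if_true, zero_add]
          exact he i
      · simp only [mul_p, base_p, one_mul, hp]⟩
  have hFinj : Function.Injective F := by
    intro x y hxy
    have h1 : base (δ (x.1 : SW ι).p) * (x.1 : SW ι) = base (δ (y.1 : SW ι).p) * (y.1 : SW ι) :=
      congrArg (fun q => ((q.1 : R) : SW ι)) hxy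
    have h2 : (x.1 : SW ι).p = (y.1 : SW ι).p := by
      simpa using congrArg SW.p h1
    rw [h2] at h1
    exact Subtype.ext (Subtype.ext (mul_left_cancel h1))
  refine lt_of_le_of_ne (Nat.card_le_card_of_injective F hFinj) fun heq => ?_
  have hbij : Function.Bijective F :=
    (Nat.bijective_iff_injective_and_card F).mpr ⟨hFinj, heq⟩
  obtain ⟨x, hx⟩ := hbij.2 ⟨⟨w, hwR⟩, hww⟩
  have h1 : (x.1 : SW ι).p = b.p := by
    simpa [F, w] using congrArg (fun q => ((q.1 : R) : SW ι).p) hx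
  have h2 := (root_spec x.2).2 i0
  rw [h1, (hb i0).2 hi0, z2_add_self] at h2
  exact zero_ne_one h2

theorem Good.map_cc {R R' : Subgroup (SW ι)} (hR : Good R) (hR' : Good R') (ψ : R ≃* R') :
    ((ψ ⟨cc, hR.base_mem 1⟩ : R') : SW ι) = cc := by
  by_contra hne
  have hz := InCtr.map ψ (z := ⟨cc, hR.base_mem 1⟩) hR.cc_mem
  have h1 := (hR'.ctr hz).2.2 hne
  rw [← rts_congr ψ ⟨cc, hR.base_mem 1⟩] at h1
  have hz' := InCtr.map ψ.symm (z := ⟨cc, hR'.base_mem 1⟩) hR'.cc_mem
  have hne' : ((ψ.symm ⟨cc, hR'.base_mem 1⟩ : R) : SW ι) ≠ cc := by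
    intro h
    apply hne
    have : ψ.symm ⟨cc, hR'.base_mem 1⟩ = ⟨cc, hR.base_mem 1⟩ := Subtype.ext h
    rw [← this, MulEquiv.apply_symm_apply]
  have h2 := (hR.ctr hz').2.2 hne'
  rw [← rts_congr ψ.symm ⟨cc, hR'.base_mem 1⟩] at h2
  simp only at h1 h2
  omega

omit [DecidableEq ι] in
theorem isPGroup_of_sq {P : Subgroup (SW ι)}
    (h : ∀ x ∈ P, x * x = 1) : IsPGroup 2 P := fun x =>
  ⟨1, Subtype.ext (by simpa [pow_two] using h x x.2)⟩

theorem good_of_max {A : ι → ZMod 2} {R : Subgroup (SW ι)}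
    (hR : IsMax2 R (Subgroup.centralizer {base A})) {v : SW ι} (hvR : v ∈ R) (hv : v * v = cc) :
    Good R := by
  classical
  have hE : ∀ w : ι → ZMod 2, base w ∈ R := by
    let N : Subgroup (SW ι) :=
      { carrier := {x | x.p = 1}
        mul_mem' := by intro a b ha hb; simp only [Set.mem_setOf_eq] at *; simp [ha, hb]
        one_mem' := rfl
        inv_mem' := by intro a ha; simp only [Set.mem_setOf_eq] at *; simp [ha] }
    have hN : N ≤ R := by
      refine hR.le_of_normalized ?_ (isPGroup_of_sq ?_) ?_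
      · intro x hx
        rw [Subgroup.mem_centralizer_singleton_iff]
        show x * base A = base A * x
        rw [eq_base hx, base_mul, base_mul, add_comm]
      · intro x hx
        rw [eq_base hx, base_mul_self]
      · intro a _ x hx
        show (a * x * a⁻¹).p = 1
        simp [show x.p = 1 from hx]
    exact fun w => hN (show (base w).p = 1 from rfl)
  refine ⟨hE, ⟨v, hvR, hv⟩, fun U hU a ha => ?_⟩
  have hUs : ∀ a ∈ R, ∀ i, U (a.p.symm i) = U i := by
    intro a ha i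
    have := hU a ha (a.p.symm i)
    rw [Equiv.apply_symm_apply] at this
    exact this.symm
  let R' : Subgroup (SW ι) :=
    { carrier := {x | ∃ b ∈ R, ∃ d ∈ R, ∀ i, (U i = 1 → x.p i = b.p i) ∧ (U i = 0 → x.p i = d.p i)}
      one_mem' := ⟨1, one_mem R, 1, one_mem R, fun i => ⟨fun _ => rfl, fun _ => rfl⟩⟩
      mul_mem' := by
        rintro x y ⟨b, hb, d, hd, h⟩ ⟨b', hb', d', hd', h'⟩
        refine ⟨b * b', mul_mem hb hb', d * d', mul_mem hd hd', fun i => ⟨fun hi => ?_, fun hi => ?_⟩⟩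
        · simp only [mul_p, Equiv.Perm.mul_apply]
          rw [(h' i).1 hi, (h _).1 (by rw [hU b' hb', hi])]
        · simp only [mul_p, Equiv.Perm.mul_apply]
          rw [(h' i).2 hi, (h _).2 (by rw [hU d' hd', hi])]
      inv_mem' := by
        rintro x ⟨b, hb, d, hd, h⟩
        refine ⟨b⁻¹, inv_mem hb, d⁻¹, inv_mem hd, fun i => ⟨fun hi => ?_, fun hi => ?_⟩⟩
        · show x.p.symm i = b.p.symm i
          rw [Equiv.symm_apply_eq, (h _).1 (by rw [hUs b hb, hi]), Equiv.apply_symm_apply]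
        · show x.p.symm i = d.p.symm i
          rw [Equiv.symm_apply_eq, (h _).2 (by rw [hUs d hd, hi]), Equiv.apply_symm_apply] }
  have hR' : R' = R := by
    refine hR.eq_of_le ?_ ?_ (fun x hx => ⟨x, hx, x, hx, fun i => ⟨fun _ => rfl, fun _ => rfl⟩⟩)
    · rintro x ⟨b, hb, d, hd, h⟩
      rw [Subgroup.mem_centralizer_singleton_iff]
      refine (commute_base_iff.mpr fun i => ?_).eq
      rcases z2_cases (U i) with hi | hi
      · rw [(h i).2 hi]
        exact commute_base_iff.mp (Subgroup.mem_centralizer_singleton_iff.mp (hR.1 hd)) i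
      · rw [(h i).1 hi]
        exact commute_base_iff.mp (Subgroup.mem_centralizer_singleton_iff.mp (hR.1 hb)) i
    · haveI : Fact (Nat.Prime 2) := ⟨Nat.prime_two⟩
      obtain ⟨m, hm⟩ := IsPGroup.iff_card.mp hR.2.1
      intro x
      refine ⟨m + 1, Subtype.ext ?_⟩
      obtain ⟨b, hb, d, hd, h⟩ := x.2
      have hpow : ∀ k : ℕ, ∀ i, (U i = 1 → ((x : SW ι) ^ k).p i = (b ^ k).p i) ∧
          (U i = 0 → ((x : SW ι) ^ k).p i = (d ^ k).p i) := by
        intro k
        induction k with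
        | zero => intro i; exact ⟨fun _ => by simp, fun _ => by simp⟩
        | succ k ih =>
          intro i
          constructor
          · intro hi
            simp only [pow_succ, mul_p, Equiv.Perm.mul_apply]
            rw [(h i).1 hi, (ih _).1 (by rw [hU b hb, hi])]
          · intro hi
            simp only [pow_succ, mul_p, Equiv.Perm.mul_apply]
            rw [(h i).2 hi, (ih _).2 (by rw [hU d hd, hi])]
      have hb1 : b ^ (2 ^ m) = 1 := by
        rw [← hm]
        exact congrArg Subtype.val (pow_card_eq_one' (x := (⟨b, hb⟩ : R)))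
      have hd1 : d ^ (2 ^ m) = 1 := by
        rw [← hm]
        exact congrArg Subtype.val (pow_card_eq_one' (x := (⟨d, hd⟩ : R)))
      have hx1 : ((x : SW ι) ^ (2 ^ m)).p = 1 := by
        apply Equiv.ext
        intro i
        rcases z2_cases (U i) with hi | hi
        · rw [(hpow _ i).2 hi, hd1, one_p]
        · rw [(hpow _ i).1 hi, hb1, one_p]
      show (x : SW ι) ^ (2 ^ (m + 1)) = 1
      rw [pow_succ 2 m, pow_mul, eq_base hx1, pow_two, base_mul_self]
  let f : ι → ι := fun i => if U i = 1 then a.p i else i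
  have hf : Function.Injective f := by
    intro i j hij
    simp only [f] at hij
    rcases z2_cases (U i) with hi | hi <;> rcases z2_cases (U j) with hj | hj <;>
      simp only [hi, hj, zero_ne_one, if_false, if_true] at hij
    · exact hij
    · exfalso; have := hU a ha j; rw [← hij, hi, hj] at this; exact zero_ne_one this
    · exfalso; have := hU a ha i; rw [hij, hi, hj] at this; exact zero_ne_one this
    · exact a.p.injective hij
  refine ⟨perm (Equiv.ofBijective f (Finite.injective_iff_bijective.mp hf)), ?_, fun i => ?_⟩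
  · rw [← hR']
    refine ⟨a, ha, 1, one_mem R, fun i => ⟨fun hi => ?_, fun hi => ?_⟩⟩ <;> simp [f, hi]
  · exact ⟨fun hi => by simp [f, hi], fun hi => by simp [f, hi]⟩

/-- A 2-group fixes a point of an invariant set of odd size. -/
theorem exists_fixed {Q : Subgroup (SW ι)} (hQ : IsPGroup 2 Q) (T : Finset ι)
    (hT : ∀ a ∈ Q, ∀ i ∈ T, a.p i ∈ T) (hodd : Odd T.card) :
    ∃ q ∈ T, ∀ a ∈ Q, a.p q = q := by
  haveI : Fact (Nat.Prime 2) := ⟨Nat.prime_two⟩
  letI : MulAction Q {i // i ∈ T} :=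
    { smul := fun a i => ⟨(a : SW ι).p i, hT _ a.2 i i.2⟩
      one_smul := fun i => Subtype.ext rfl
      mul_smul := fun a b i => Subtype.ext rfl }
  obtain ⟨q, hq⟩ := hQ.nonempty_fixed_point_of_prime_not_dvd_card {i // i ∈ T} (by
    rw [Nat.card_eq_fintype_card, Fintype.card_coe]
    exact fun h => (Nat.not_even_iff_odd.mpr hodd) (even_iff_two_dvd.mpr h))
  exact ⟨q, q.2, fun a ha => congrArg Subtype.val (hq ⟨a, ha⟩)⟩

end SW

end Cfsg.Agent.Kondo
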