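import Cfsg.Agent.Lib.Kondo.Count
import Mathlib.GroupTheory.SpecificGroups.Alternating
import Mathlib.GroupTheory.Perm.ViaEmbedding
import Mathlib.Data.Fintype.EquivFin

/-!
# The centralizer of an involution in an alternating group
-/

set_option autoImplicit false
set_option linter.style.haveILetI false

namespace Cfsg.Agent.Kondo

open SW

theorem exists_coords {m k : ℕ} (a : Equiv.Perm (Fin m)) (ha : ∀ i, a (a i) = i)
    (hk : a.support.card = 2 * k) :
    ∃ θ : Fin k × ZMod 2 → Fin m, Function.Injective θ ∧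
      (∀ p b, a (θ (p, b)) = θ (p, b + 1)) ∧ ∀ i, i ∈ a.support ↔ ∃ x, θ x = i := by
  classical
  let R := {i : Fin m // i < a i}
  have h10 : ¬ (1 : ZMod 2) = 0 := by decide
  let θ0 : R × ZMod 2 → Fin m := fun x => if x.2 = 0 then x.1.1 else a x.1.1
  have h0inj : Function.Injective θ0 := by
    rintro ⟨⟨r, hr⟩, b⟩ ⟨⟨r', hr'⟩, b'⟩ h
    rcases z2_cases b with rfl | rfl <;> rcases z2_cases b' with rfl | rfl <;>
      simp only [θ0, if_true, if_neg h10] at h
    · subst h; rfl
    · subst h; rw [ha] at hr; exact absurd (hr.trans hr') (lt_irrefl _)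
    · subst h; rw [ha] at hr'; exact absurd (hr.trans hr') (lt_irrefl _)
    · obtain rfl := a.injective h; rfl
  have h0img : ∀ i, i ∈ a.support ↔ ∃ x, θ0 x = i := by
    intro i
    rw [Equiv.Perm.mem_support]
    constructor
    · intro hi
      rcases lt_or_gt_of_ne (Ne.symm hi) with h | h
      · exact ⟨(⟨i, h⟩, 0), by simp [θ0]⟩
      · exact ⟨(⟨a i, by rw [ha]; exact h⟩, 1), by simp [θ0, h10, ha]⟩
    · rintro ⟨⟨⟨r, hr⟩, b⟩, rfl⟩
      rcases z2_cases b with rfl | rfl
      · simpa [θ0] using ne_of_gt hr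
      · simpa [θ0, h10, ha] using ne_of_lt hr
  have hcard : Fintype.card R = k := by
    have h1 : (Finset.univ : Finset (R × ZMod 2)).image θ0 = a.support := by
      ext i; simp [h0img i]
    rw [← h1, Finset.card_image_of_injective _ h0inj, Finset.card_univ, Fintype.card_prod,
      ZMod.card] at hk
    omega
  let e := Fintype.equivFinOfCardEq hcard
  refine ⟨fun x => θ0 (e.symm x.1, x.2), fun x y h => ?_, fun p b => ?_, fun i => ?_⟩
  · obtain ⟨h1, h2⟩ := Prod.mk.injEq .. ▸ h0inj h
    exact Prod.ext (e.symm.injective h1) h2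
  · rcases z2_cases b with rfl | rfl
    · simp [θ0, h10]
    · simp [θ0, h10, ha, show (1 : ZMod 2) + 1 = 0 from by decide]
  · rw [h0img]
    exact ⟨fun ⟨x, hx⟩ => ⟨(e x.1, x.2), by simpa using hx⟩, fun ⟨x, hx⟩ => ⟨_, hx⟩⟩

/-- The centralizer in an alternating group of an involution moving all but two or three points maps
onto `2 ≀ Sym k` with kernel of odd order. -/
theorem exists_hom {m k : ℕ} (α : ↥(alternatingGroup (Fin m)))
    (hα : ∀ i, (α : Equiv.Perm (Fin m)) ((α : Equiv.Perm (Fin m)) i) = i)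
    (hk : (α : Equiv.Perm (Fin m)).support.card = 2 * k) (hm : 2 * k + 2 ≤ m)
    (hm' : m ≤ 2 * k + 3) :
    ∃ f : ↥(Subgroup.centralizer ({α} : Set ↥(alternatingGroup (Fin m)))) →* SW (Fin k),
      Function.Surjective f ∧ Odd (Nat.card f.ker) := by
  classical
  set a : Equiv.Perm (Fin m) := (α : Equiv.Perm (Fin m)) with ha
  obtain ⟨θ, hθ, hθa, hθs⟩ := exists_coords a hα hk
  let C := Subgroup.centralizer ({α} : Set ↥(alternatingGroup (Fin m)))
  let P : C → Equiv.Perm (Fin m) := fun h => ((h : ↥(alternatingGroup (Fin m))) : Equiv.Perm (Fin m))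
  have hcomm : ∀ (h : C) i, P h (a i) = a (P h i) := by
    intro h i
    have := congrArg (fun q : ↥(alternatingGroup (Fin m)) => (q : Equiv.Perm (Fin m)) i)
      (Subgroup.mem_centralizer_singleton_iff.mp h.2)
    simpa [ha, P] using this
  have key : ∀ h : C, ∃ w : SW (Fin k), ∀ p b, P h (θ (p, b)) = θ (w.p p, b + w.e (w.p p)) := by
    intro h
    have hmem : ∀ p : Fin k, ∃ x, θ x = P h (θ (p, 0)) := by
      intro p
      rw [← hθs, Equiv.Perm.mem_support, ← hcomm h, (P h).injective.ne_iff,
        ← Equiv.Perm.mem_support, hθs]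
      exact ⟨_, rfl⟩
    choose g hg using hmem
    have hg1 : ∀ p b, P h (θ (p, b)) = θ ((g p).1, b + (g p).2) := by
      intro p b
      rcases z2_cases b with rfl | rfl
      · rw [zero_add, ← hg]
      · rw [show θ (p, (1 : ZMod 2)) = a (θ (p, 0)) by rw [hθa, zero_add], hcomm, ← hg,
          ← Prod.mk.eta (p := g p), hθa, add_comm]
    have hinj : Function.Injective fun p => (g p).1 := by
      intro p q hpq
      have h1 : P h (θ (p, 0)) = P h (θ (q, (g p).2 + (g q).2)) := by
        rw [hg1, hg1, zero_add, add_assoc, z2_add_self, add_zero]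
        simp only at hpq
        rw [hpq]
      exact congrArg Prod.fst (hθ ((P h).injective h1))
    let σ := Equiv.ofBijective _ (Finite.injective_iff_bijective.mp hinj)
    exact ⟨⟨fun q => (g (σ.symm q)).2, σ⟩, fun p b => by
      rw [hg1]
      show θ ((g p).1, b + (g p).2) = θ (σ p, b + (g (σ.symm (σ p))).2)
      rw [Equiv.symm_apply_apply]
      rfl⟩
  choose F hF using key
  have huniq : ∀ (h : C) (w : SW (Fin k)),
      (∀ p b, P h (θ (p, b)) = θ (w.p p, b + w.e (w.p p))) → F h = w := by
    intro h w hw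
    have h1 : ∀ p, (F h).p p = w.p p ∧ (F h).e ((F h).p p) = w.e (w.p p) := by
      intro p
      have := hθ ((hF h p 0).symm.trans (hw p 0))
      simp only [zero_add, Prod.mk.injEq] at this
      exact this
    refine SW.ext (funext fun q => ?_) (Equiv.ext fun p => (h1 p).1)
    obtain ⟨p, rfl⟩ := w.p.surjective q
    have := (h1 p).2
    rwa [(h1 p).1] at this
  have hmul : ∀ u v : C, F (u * v) = F u * F v := by
    intro u v
    refine huniq _ _ fun p b => ?_
    show P u (P v (θ (p, b))) = _
    rw [hF v, hF u]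
    simp only [mul_p, Equiv.Perm.mul_apply, mul_e, Equiv.Perm.inv_def, Equiv.symm_apply_apply]
    rw [add_comm ((F u).e _) ((F v).e _), ← add_assoc]
  have hout : ∀ i, i ∉ a.support → a i = i := fun i hi => Equiv.Perm.notMem_support.mp hi
  refine ⟨MonoidHom.mk' F hmul, ?_, ?_⟩
  · intro w
    let q : Equiv.Perm (Fin k × ZMod 2) :=
      Equiv.ofBijective (fun x => (w.p x.1, x.2 + w.e (w.p x.1)))
        (Finite.injective_iff_bijective.mp fun x y h => by
          simp only [Prod.mk.injEq] at h
          obtain ⟨h1, h2⟩ := h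
          have h3 := w.p.injective h1
          exact Prod.ext h3 (by rw [h3] at h2; exact add_right_cancel h2))
    let π : Equiv.Perm (Fin m) := q.extendDomain (Equiv.ofInjective θ hθ)
    have hπ : ∀ p b, π (θ (p, b)) = θ (w.p p, b + w.e (w.p p)) := fun p b =>
      Equiv.Perm.extendDomain_apply_image q (Equiv.ofInjective θ hθ) (p, b)
    have hπo : ∀ i, i ∉ a.support → π i = i := fun i hi =>
      Equiv.Perm.extendDomain_apply_not_subtype q _ (fun hi' => hi ((hθs i).mpr hi'))
    obtain ⟨c1, hc1, c2, hc2, hc12⟩ : ∃ c1 ∈ a.supportᶜ, ∃ c2 ∈ a.supportᶜ, c1 ≠ c2 := by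
      refine Finset.one_lt_card.mp ?_
      rw [Finset.card_compl, Fintype.card_fin, hk]
      omega
    rw [Finset.mem_compl] at hc1 hc2
    obtain ⟨π', hπ', hsign, hπ'o⟩ : ∃ π' : Equiv.Perm (Fin m),
        (∀ p b, π' (θ (p, b)) = θ (w.p p, b + w.e (w.p p))) ∧ Equiv.Perm.sign π' = 1 ∧
        (∀ i, i ∉ a.support → π' i ∉ a.support) := by
      rcases Int.units_eq_one_or (Equiv.Perm.sign π) with h | h
      · exact ⟨π, hπ, h, fun i hi => by rw [hπo i hi]; exact hi⟩
      · refine ⟨Equiv.swap c1 c2 * π, fun p b => ?_, ?_, fun i hi => ?_⟩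
        · rw [Equiv.Perm.mul_apply, hπ, Equiv.swap_apply_of_ne_of_ne]
          · exact fun e => hc1 ((hθs c1).mpr ⟨_, e⟩)
          · exact fun e => hc2 ((hθs c2).mpr ⟨_, e⟩)
        · rw [map_mul, h, Equiv.Perm.sign_swap hc12]; rfl
        · rw [Equiv.Perm.mul_apply, hπo i hi, Equiv.swap_apply_def]
          split_ifs <;> assumption
    have hπa : π' * a = a * π' := by
      refine Equiv.ext fun i => ?_
      rw [Equiv.Perm.mul_apply, Equiv.Perm.mul_apply]
      by_cases hi : i ∈ a.support
      · obtain ⟨⟨p, b⟩, rfl⟩ := (hθs i).mp hi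
        rw [hθa, hπ', hπ', hθa, add_right_comm]
      · rw [hout i hi, hout _ (hπ'o i hi)]
    refine ⟨⟨⟨π', Equiv.Perm.mem_alternatingGroup.mpr hsign⟩,
      Subgroup.mem_centralizer_singleton_iff.mpr (Subtype.ext hπa)⟩, huniq _ _ hπ'⟩
  · rw [← Nat.not_even_iff_odd, even_iff_two_dvd]
    intro h2
    haveI : Fact (Nat.Prime 2) := ⟨Nat.prime_two⟩
    obtain ⟨⟨h, hh⟩, hord⟩ := exists_prime_orderOf_dvd_card' 2 h2
    rw [Subgroup.orderOf_mk] at hord
    have hne : P h ≠ 1 := by
      intro e
      rw [show h = 1 from Subtype.ext (Subtype.ext e), orderOf_one] at hord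
      exact absurd hord (by norm_num)
    have hsq : ∀ i, P h (P h i) = i := by
      intro i
      have h1 : h * h = 1 := by rw [← pow_two, ← hord, pow_orderOf_eq_one]
      exact congrArg (fun q : C => P q i) h1
    have hfix : ∀ i ∈ a.support, P h i = i := by
      intro i hi
      obtain ⟨⟨p, b⟩, rfl⟩ := (hθs i).mp hi
      rw [hF, show F h = 1 from hh]
      simp
    obtain ⟨c, hc⟩ : ∃ c, P h c ≠ c := by
      by_contra hcon
      push Not at hcon
      exact hne (Equiv.ext hcon)
    have hswap : P h = Equiv.swap c (P h c) := by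
      refine Equiv.ext fun q => ?_
      rcases eq_or_ne q c with rfl | h1
      · rw [Equiv.swap_apply_left]
      rcases eq_or_ne q (P h c) with rfl | h2
      · rw [Equiv.swap_apply_right, hsq]
      rw [Equiv.swap_apply_of_ne_of_ne h1 h2]
      by_contra h3
      have h4 : ({c, P h c, q, P h q} : Finset (Fin m)) ⊆ a.supportᶜ := by
        intro x hx
        rw [Finset.mem_compl]
        intro hxs
        have hx' := hfix x hxs
        simp only [Finset.mem_insert, Finset.mem_singleton] at hx
        rcases hx with rfl | rfl | rfl | rfl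
        · exact hc hx'
        · rw [hsq] at hx'; exact hc hx'.symm
        · exact h3 hx'
        · rw [hsq] at hx'; exact h3 hx'.symm
      have h5 := Finset.card_le_card h4
      have e1 : P h c ≠ P h q := fun e => h1 ((P h).injective e).symm
      have e2 : c ≠ P h q := fun e => h2 (by rw [e, hsq])
      rw [Finset.card_compl, Fintype.card_fin, hk,
        Finset.card_insert_of_notMem (by simp [Ne.symm hc, h1.symm, e2]),
        Finset.card_insert_of_notMem (by simp [h2.symm, e1]),
        Finset.card_pair (Ne.symm h3)] at h5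
      omega
    have hs := Equiv.Perm.mem_alternatingGroup.mp (h : ↥(alternatingGroup (Fin m))).2
    rw [show ((h : ↥(alternatingGroup (Fin m))) : Equiv.Perm (Fin m)) = Equiv.swap c (P h c) from hswap,
      Equiv.Perm.sign_swap (Ne.symm hc)] at hs
    exact absurd hs (by decide)

theorem eq_cc_of_center {k : ℕ} {z : SW (Fin k)} (hc : ∀ a, Commute z a) (hne : z ≠ 1) : z = cc := by
  have hp : z.p = 1 := p_eq_one_of_commute fun v => hc _
  have he : ∀ i j, z.e i = z.e j := by
    intro i j
    have := congrArg (fun q : SW (Fin k) => q.e j) (hc (perm (Equiv.swap i j))).eq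
    simp [hp] at this
    exact this.symm
  obtain ⟨i, hi⟩ : ∃ i, z.e i = 1 := by
    by_contra hcon
    push Not at hcon
    refine hne (SW.ext (funext fun i => ?_) hp)
    exact (z2_cases (z.e i)).resolve_right (hcon i)
  refine SW.ext (funext fun j => ?_) hp
  rw [he j i, hi]; rfl

end Cfsg.Agent.Kondo
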