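import Cfsg.Agent.Lib.Kondo.Fusion

/-!
# Reducing the number of exchanged pairs
-/

set_option autoImplicit false
set_option linter.style.haveILetI false
set_option linter.unusedSectionVars false

namespace Cfsg.Agent.Kondo

open SW

variable {ι : Type} [Fintype ι] [DecidableEq ι]

/-- An element exchanging exactly one pair, with equal signs on it. -/
structure IsPair (x : SW ι) (i j : ι) : Prop where
  ne : i ≠ j
  p_eq : x.p = Equiv.swap i j
  e_eq : x.e i = x.e j

variable {x : SW ι} {i j : ι}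

theorem IsPair.mem_cent (hx : IsPair x i j) {a : SW ι} :
    a ∈ Subgroup.centralizer ({x} : Set (SW ι)) ↔
      ((a.p i = i ∧ a.p j = j) ∨ (a.p i = j ∧ a.p j = i)) ∧ a.e i = a.e j ∧
        ∀ k, x.e (a.p k) = x.e k := by
  rw [Subgroup.mem_centralizer_singleton_iff]
  constructor
  · intro h
    have hp : a.p * x.p = x.p * a.p := congrArg SW.p h
    rw [hx.p_eq] at hp
    have hpi := Equiv.ext_iff.mp hp i
    have hpj := Equiv.ext_iff.mp hp j
    simp only [Equiv.Perm.mul_apply, Equiv.swap_apply_left, Equiv.swap_apply_right] at hpi hpj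
    have hpair : (a.p i = i ∧ a.p j = j) ∨ (a.p i = j ∧ a.p j = i) := by
      have hne : a.p j ≠ a.p i := fun e => hx.ne (a.p.injective e).symm
      rcases eq_or_ne (a.p i) i with h1 | h1
      · exact Or.inl ⟨h1, by rw [hpi, h1, Equiv.swap_apply_left]⟩
      rcases eq_or_ne (a.p i) j with h2 | h2
      · exact Or.inr ⟨h2, by rw [hpi, h2, Equiv.swap_apply_right]⟩
      · exact absurd (by rw [hpi, Equiv.swap_apply_of_ne_of_ne h1 h2]) hne
    have he : ∀ k, a.e k + x.e (a.p⁻¹ k) = x.e k + a.e (Equiv.swap i j k) := by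
      intro k
      have := congrArg (fun y : SW ι => y.e k) h
      simpa [hx.p_eq] using this
    have hxpair : x.e (a.p⁻¹ i) = x.e i := by
      rcases hpair with ⟨h1, -⟩ | ⟨-, h2⟩
      · rw [Equiv.Perm.inv_eq_iff_eq.mpr h1.symm]
      · rw [Equiv.Perm.inv_eq_iff_eq.mpr h2.symm, hx.e_eq]
    have hij : a.e i = a.e j := by
      have := he i
      rw [hxpair, Equiv.swap_apply_left, add_comm (x.e i)] at this
      exact add_right_cancel this
    refine ⟨hpair, hij, fun k => ?_⟩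
    rcases eq_or_ne k i with rfl | h1
    · rcases hpair with ⟨h1, -⟩ | ⟨h1, -⟩
      · rw [h1]
      · rw [h1, hx.e_eq]
    rcases eq_or_ne k j with rfl | h2
    · rcases hpair with ⟨-, h1⟩ | ⟨-, h1⟩
      · rw [h1]
      · rw [h1, hx.e_eq]
    have hk1 : a.p k ≠ i ∧ a.p k ≠ j := by
      rcases hpair with ⟨e1, e2⟩ | ⟨e1, e2⟩
      · exact ⟨fun e => h1 (a.p.injective (e.trans e1.symm)),
          fun e => h2 (a.p.injective (e.trans e2.symm))⟩
      · exact ⟨fun e => h2 (a.p.injective (e.trans e2.symm)),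
          fun e => h1 (a.p.injective (e.trans e1.symm))⟩
    have := he (a.p k)
    rw [Equiv.Perm.inv_def, Equiv.symm_apply_apply, Equiv.swap_apply_of_ne_of_ne hk1.1 hk1.2,
      add_comm (x.e (a.p k))] at this
    exact (add_left_cancel this).symm
  · rintro ⟨hpair, hij, hk⟩
    have hsw : a.p * Equiv.swap i j = Equiv.swap i j * a.p := by
      rw [Equiv.mul_swap_eq_swap_mul]
      rcases hpair with ⟨h1, h2⟩ | ⟨h1, h2⟩
      · rw [h1, h2]
      · rw [h1, h2, Equiv.swap_comm]
    ext k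
    · simp only [mul_e, hx.p_eq, Equiv.swap_inv]
      have h1 : x.e (a.p⁻¹ k) = x.e k := by
        rw [← hk (a.p⁻¹ k), Equiv.Perm.inv_def, Equiv.apply_symm_apply]
      have h2 : a.e (Equiv.swap i j k) = a.e k := by
        rcases eq_or_ne k i with rfl | h1
        · rw [Equiv.swap_apply_left, hij]
        rcases eq_or_ne k j with rfl | h2
        · rw [Equiv.swap_apply_right, hij]
        rw [Equiv.swap_apply_of_ne_of_ne h1 h2]
      rw [h1, h2, add_comm]
    · show (a.p * x.p) _ = (x.p * a.p) _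
      rw [hx.p_eq, hsw]

/-- The elements of the centralizer fixing every point outside the pair. -/
def PairFix (x : SW ι) (i j : ι) (a : SW ι) : Prop :=
  a ∈ Subgroup.centralizer ({x} : Set (SW ι)) ∧ ∀ k, k ≠ i → k ≠ j → a.p k = k

theorem IsPair.pairFix_comm (hx : IsPair x i j) {a b : SW ι} (ha : PairFix x i j a)
    (hb : PairFix x i j b) : Commute a b := by
  obtain ⟨pa, ea, -⟩ := hx.mem_cent.mp ha.1
  obtain ⟨pb, eb, -⟩ := hx.mem_cent.mp hb.1
  have hinv : ∀ c : SW ι, PairFix x i j c → c.e i = c.e j →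
      ((c.p i = i ∧ c.p j = j) ∨ (c.p i = j ∧ c.p j = i)) →
      ∀ (d : SW ι), d.e i = d.e j → ∀ k, d.e (c.p⁻¹ k) = d.e k := by
    intro c hc _ hp d hd k
    obtain ⟨l, rfl⟩ := c.p.surjective k
    rw [Equiv.Perm.inv_def, Equiv.symm_apply_apply]
    rcases eq_or_ne l i with rfl | h1
    · rcases hp with ⟨e1, -⟩ | ⟨e1, -⟩
      · rw [e1]
      · rw [e1, hd]
    rcases eq_or_ne l j with rfl | h2
    · rcases hp with ⟨-, e1⟩ | ⟨-, e1⟩
      · rw [e1]
      · rw [e1, hd]
    rw [hc.2 l h1 h2]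
  show a * b = b * a
  ext k
  · simp only [mul_e]
    rw [hinv a ha ea pa b eb k, hinv b hb eb pb a ea k, add_comm]
  · show (a.p * b.p) k = (b.p * a.p) k
    simp only [Equiv.Perm.mul_apply]
    rcases eq_or_ne k i with rfl | h1
    · rcases pa with ⟨u, v⟩ | ⟨u, v⟩ <;> rcases pb with ⟨u', v'⟩ | ⟨u', v'⟩ <;>
        simp [u, v, u', v']
    rcases eq_or_ne k j with rfl | h2
    · rcases pa with ⟨u, v⟩ | ⟨u, v⟩ <;> rcases pb with ⟨u', v'⟩ | ⟨u', v'⟩ <;>
        simp [u, v, u', v']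
    rw [ha.2 k h1 h2, hb.2 k h1 h2, ha.2 k h1 h2]

theorem IsPair.pairFix_conj (hx : IsPair x i j) {a h : SW ι} (ha : PairFix x i j a)
    (hh : h ∈ Subgroup.centralizer ({x} : Set (SW ι))) : PairFix x i j (h * a * h⁻¹) := by
  refine ⟨Subgroup.mul_mem _ (Subgroup.mul_mem _ hh ha.1) (Subgroup.inv_mem _ hh), fun k h1 h2 => ?_⟩
  obtain ⟨hp, -, -⟩ := hx.mem_cent.mp hh
  obtain ⟨l, rfl⟩ := h.p.surjective k
  simp only [mul_p, inv_p, Equiv.Perm.mul_apply, Equiv.Perm.inv_def, Equiv.symm_apply_apply]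
  congr 1
  refine ha.2 l (fun e => ?_) (fun e => ?_) <;> subst e <;> rcases hp with ⟨u, v⟩ | ⟨u, v⟩
  · exact h1 u
  · exact h2 u
  · exact h2 v
  · exact h1 v

/-- The image of a pair fixer moves a point outside the pair only within a class of size two. -/
theorem IsPair.image_fix (hx : IsPair x i j)
    (φ : ↥(Subgroup.centralizer ({x} : Set (SW ι))) ≃* ↥(Subgroup.centralizer ({x} : Set (SW ι))))
    (v : ↥(Subgroup.centralizer ({x} : Set (SW ι)))) (hv : PairFix x i j v) {k : ι} (hki : k ≠ i)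
    (hkj : k ≠ j) (hne : (φ v : SW ι).p k ≠ k) {q : ι} (hqi : q ≠ i) (hqj : q ≠ j)
    (hq : x.e q = x.e k) : q = k ∨ q = (φ v : SW ι).p k := by
  by_contra hcon
  push Not at hcon
  set k' := (φ v : SW ι).p k with hk'
  obtain ⟨hp, -, hcls⟩ := hx.mem_cent.mp (φ v).2
  have hk'c : x.e k' = x.e k := hcls k
  have hk'i : k' ≠ i ∧ k' ≠ j := by
    rcases hp with ⟨u, w⟩ | ⟨u, w⟩
    · exact ⟨fun e => hki ((φ v : SW ι).p.injective (e.trans u.symm)),
        fun e => hkj ((φ v : SW ι).p.injective (e.trans w.symm))⟩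
    · exact ⟨fun e => hkj ((φ v : SW ι).p.injective (e.trans w.symm)),
        fun e => hki ((φ v : SW ι).p.injective (e.trans u.symm))⟩
  have hh : perm (Equiv.swap k' q) ∈ Subgroup.centralizer ({x} : Set (SW ι)) := by
    rw [hx.mem_cent]
    refine ⟨Or.inl ⟨?_, ?_⟩, rfl, fun l => ?_⟩
    · rw [perm_p, Equiv.swap_apply_of_ne_of_ne hk'i.1.symm hqi.symm]
    · rw [perm_p, Equiv.swap_apply_of_ne_of_ne hk'i.2.symm hqj.symm]
    · simp only [perm_p, Equiv.swap_apply_def]
      split_ifs with h1 h2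
      · rw [h1, hk'c, hq]
      · rw [h2, hk'c, hq]
      · rfl
  have hπ : base (Pi.single k 1) ∈ Subgroup.centralizer ({x} : Set (SW ι)) := by
    rw [hx.mem_cent]
    exact ⟨Or.inl ⟨rfl, rfl⟩, by simp [Pi.single_apply, hki.symm, hkj.symm], fun l => rfl⟩
  refine fix_of_conj_comm (φ v).2 (fun u hu w hw => ?_) hπ hh
    (Equiv.swap_apply_of_ne_of_ne (Ne.symm hne) hcon.1.symm) hne ?_
  · obtain ⟨u', hu'⟩ := φ.surjective ⟨u, hu⟩
    obtain ⟨w', hw'⟩ := φ.surjective ⟨w, hw⟩
    have hc : Commute (u' * v * u'⁻¹) (w' * v * w'⁻¹) :=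
      Subtype.ext (hx.pairFix_comm (hx.pairFix_conj hv u'.2) (hx.pairFix_conj hv w'.2)).eq
    have h2 := (hc.map φ.toMonoidHom).map (Subgroup.centralizer ({x} : Set (SW ι))).subtype
    simpa [hu', hw'] using h2
  · rw [perm_p, Equiv.swap_apply_left]; exact hcon.2

/-- The image of a square in the fixer of the pair lies in the base. -/
theorem IsPair.image_sq (hx : IsPair x i j)
    (φ : ↥(Subgroup.centralizer ({x} : Set (SW ι))) ≃* ↥(Subgroup.centralizer ({x} : Set (SW ι))))
    (d : ↥(Subgroup.centralizer ({x} : Set (SW ι)))) (hd : PairFix x i j (d * d : SW ι)) :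
    (φ (d * d) : SW ι).p = 1 ∧ par (φ (d * d) : SW ι) = 0 := by
  have hw : (φ (d * d) : SW ι) = (φ d : SW ι) * (φ d : SW ι) := by rw [map_mul, Subgroup.coe_mul]
  refine ⟨Equiv.ext fun k => ?_, by rw [hw, par_mul_self]⟩
  obtain ⟨hp, -, hcls⟩ := hx.mem_cent.mp (φ d).2
  have e2 : (φ (d * d) : SW ι).p k = (φ d : SW ι).p ((φ d : SW ι).p k) := by rw [hw]; rfl
  rw [Equiv.Perm.one_apply]
  rcases eq_or_ne k i with rfl | hki
  · rw [e2]; rcases hp with ⟨u, w⟩ | ⟨u, w⟩ <;> simp [u, w]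
  rcases eq_or_ne k j with rfl | hkj
  · rw [e2]; rcases hp with ⟨u, w⟩ | ⟨u, w⟩ <;> simp [u, w]
  by_contra hne
  have hoff : ∀ l, l ≠ i → l ≠ j → (φ d : SW ι).p l ≠ i ∧ (φ d : SW ι).p l ≠ j := by
    intro l hli hlj
    rcases hp with ⟨u, w⟩ | ⟨u, w⟩
    · exact ⟨fun e => hli ((φ d : SW ι).p.injective (e.trans u.symm)),
        fun e => hlj ((φ d : SW ι).p.injective (e.trans w.symm))⟩
    · exact ⟨fun e => hlj ((φ d : SW ι).p.injective (e.trans w.symm)),
        fun e => hli ((φ d : SW ι).p.injective (e.trans u.symm))⟩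
  set c1 := (φ d : SW ι).p k with hc1
  have h1 := hx.image_fix φ (d * d) hd hki hkj hne (hoff k hki hkj).1 (hoff k hki hkj).2
    (hcls k)
  rw [e2] at h1 hne
  rcases h1 with h1 | h1
  · exact hne ((congrArg ((φ d : SW ι).p) h1).trans h1)
  · have : c1 = k := ((φ d : SW ι).p.injective h1.symm)
    exact hne ((congrArg ((φ d : SW ι).p) this).trans this)

/-- The fixed vectors of a permutation. -/
noncomputable def fixCount (p : Equiv.Perm ι) : ℕ :=
  Nat.card {v : ι → ZMod 2 // ∀ k, v (p k) = v k}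

theorem fixCount_conj (π p : Equiv.Perm ι) : fixCount (π * p * π⁻¹) = fixCount p := by
  refine Nat.card_congr (Equiv.subtypeEquiv (Equiv.arrowCongr π.symm (Equiv.refl _)) fun v => ?_)
  simp only [Equiv.Perm.mul_apply, Equiv.arrowCongr_apply, Equiv.coe_refl, Equiv.symm_symm,
    Function.comp_apply, id_eq]
  refine ⟨fun h k => ?_, fun h k => ?_⟩
  · have := h (π k)
    simpa [Equiv.Perm.inv_def] using this
  · have := h (π⁻¹ k)
    simpa [Equiv.Perm.inv_def] using this

/-- The unit on a pair. -/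
def pairVec (i j : ι) : ι → ZMod 2 := indv {i, j}

theorem pairVec_apply (k : ι) : pairVec i j k = if k = i ∨ k = j then 1 else 0 := by
  simp [pairVec, indv]

theorem isConj_mul_pair {z : SW ι} (hij : i ≠ j) (h1 : z.p i = j) (h2 : z.p j = i) :
    IsConj z (z * base (pairVec i j)) := by
  refine isConj_iff.mpr ⟨base (Pi.single i 1), ?_⟩
  rw [show (base (Pi.single i (1 : ZMod 2)))⁻¹ = base (Pi.single i 1) from
    inv_eq_of_mul_eq_one_right (base_mul_self _)]
  ext k
  · obtain ⟨l, rfl⟩ := z.p.surjective k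
    simp only [mul_e, mul_p, base_e, base_p, inv_one, Equiv.Perm.one_apply, one_mul,
      Equiv.Perm.inv_def, Equiv.symm_apply_apply, pairVec_apply, Pi.single_apply]
    rcases eq_or_ne l i with rfl | hli
    · rw [if_neg (show z.p l ≠ l by rw [h1]; exact hij.symm), if_pos rfl, if_pos (Or.inl rfl)]
      abel
    rcases eq_or_ne l j with rfl | hlj
    · rw [if_pos h2, if_neg hij.symm, if_pos (Or.inr rfl)]
      abel
    rw [if_neg (fun e => hlj (z.p.injective (e.trans h2.symm))), if_neg hli,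
      if_neg (not_or.mpr ⟨hli, hlj⟩)]
    abel
  · simp

theorem exists_perm_pair {k k' : ι} (hk : k ≠ k') (hij : i ≠ j) :
    ∃ π : Equiv.Perm ι, π k = i ∧ π k' = j := by
  let a : Equiv.Perm ι := Equiv.swap k i
  refine ⟨Equiv.swap (a k') j * a, ?_, Equiv.swap_apply_left _ j⟩
  show Equiv.swap (a k') j (a k) = i
  rw [show a k = i from Equiv.swap_apply_left k i]
  exact Equiv.swap_apply_of_ne_of_ne
    (fun h => hk (a.injective ((Equiv.swap_apply_left k i).trans h))) hij

variable {Rel : SW ι → SW ι → Prop}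

/-- Outside the pair the signs of the distinguished element agree. -/
theorem Ax.const_off (A : Ax Rel) (hev : Even (Fintype.card ι)) (hx : IsPair x i j)
    (hpar : par x = 0) (σ : Swap Rel x) {k l : ι} (hki : k ≠ i) (hkj : k ≠ j) (hli : l ≠ i)
    (hlj : l ≠ j) : x.e k = x.e l := by
  by_contra hne
  set L : Finset ι := ({i, j} : Finset ι)ᶜ with hL
  have hLmem : ∀ q, q ∈ L ↔ q ≠ i ∧ q ≠ j := by intro q; simp [hL]
  have hLcard : Even L.card := by
    rw [hL, Finset.card_compl, Finset.card_pair hx.ne]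
    obtain ⟨n, hn⟩ := hev
    exact ⟨n - 1, by omega⟩
  set A1 := L.filter (fun q => x.e q = 1) with hA1
  set A0 := L.filter (fun q => x.e q = 0) with hA0
  have hsum : A1.card + A0.card = L.card := by
    have h : A0 = L.filter (fun q => ¬ x.e q = 1) := by
      rw [hA0]; refine Finset.filter_congr fun q _ => ?_
      rcases z2_cases (x.e q) with h | h <;> simp [h]
    rw [h, hA1, Finset.card_filter_add_card_filter_not]
  have hA1e : Even A1.card := by
    rw [← ZMod.natCast_eq_zero_iff_even, hA1, Finset.natCast_card_filter]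
    have h2 : (∑ q ∈ L, if x.e q = 1 then (1 : ZMod 2) else 0) = ∑ q ∈ L, x.e q :=
      Finset.sum_congr rfl fun q _ => by rcases z2_cases (x.e q) with h | h <;> simp [h]
    rw [h2, hL]
    have h3 : par x = 0 := hpar
    rw [par, ← Finset.sum_add_sum_compl ({i, j} : Finset ι), Finset.sum_pair hx.ne, hx.e_eq,
      z2_add_self, zero_add] at h3
    exact h3
  have hA0e : Even A0.card := by
    obtain ⟨a, ha⟩ := hA1e
    obtain ⟨b, hb⟩ := hLcard
    exact ⟨b - a, by omega⟩
  have hpick : ∀ B : Finset ι, Even B.card → B.Nonempty →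
      ∃ p ∈ B, ∃ q ∈ B, p ≠ q := by
    intro B hB hne
    have := Finset.card_pos.mpr hne
    obtain ⟨b, hb⟩ := hB
    exact Finset.one_lt_card.mp (by omega)
  have hk1 : ∃ q ∈ L, x.e q = 1 := by
    rcases z2_cases (x.e k) with h | h
    · refine ⟨l, (hLmem l).mpr ⟨hli, hlj⟩, (z2_cases _).resolve_left fun h' => hne ?_⟩
      rw [h, h']
    · exact ⟨k, (hLmem k).mpr ⟨hki, hkj⟩, h⟩
  have hk0 : ∃ q ∈ L, x.e q = 0 := by
    rcases z2_cases (x.e k) with h | h
    · exact ⟨k, (hLmem k).mpr ⟨hki, hkj⟩, h⟩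
    · refine ⟨l, (hLmem l).mpr ⟨hli, hlj⟩, (z2_cases _).resolve_right fun h' => hne ?_⟩
      rw [h, h']
  obtain ⟨i1, hi1, i2, hi2, hi12⟩ := hpick A1 hA1e
    (let ⟨q, h, h'⟩ := hk1; ⟨q, Finset.mem_filter.mpr ⟨h, h'⟩⟩)
  obtain ⟨l1, hl1, l2, hl2, hl12⟩ := hpick A0 hA0e
    (let ⟨q, h, h'⟩ := hk0; ⟨q, Finset.mem_filter.mpr ⟨h, h'⟩⟩)
  simp only [hA1, hA0, Finset.mem_filter, hLmem] at hi1 hi2 hl1 hl2
  obtain ⟨⟨a1, b1⟩, e1⟩ := hi1
  obtain ⟨⟨a2, b2⟩, e2⟩ := hi2
  obtain ⟨⟨a3, b3⟩, e3⟩ := hl1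
  obtain ⟨⟨a4, b4⟩, e4⟩ := hl2
  have n13 : i1 ≠ l1 := fun e => by rw [e, e3] at e1; exact zero_ne_one e1
  have n14 : i1 ≠ l2 := fun e => by rw [e, e4] at e1; exact zero_ne_one e1
  have n23 : i2 ≠ l1 := fun e => by rw [e, e3] at e2; exact zero_ne_one e2
  have n24 : i2 ≠ l2 := fun e => by rw [e, e4] at e2; exact zero_ne_one e2
  set V : Finset ι := {i1, i2, l1, l2} with hV
  have hVev : ∀ c, Even (V.filter fun q => x.e q = c).card := by
    intro c
    rcases z2_cases c with rfl | rfl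
    · have : V.filter (fun q => x.e q = 0) = {l1, l2} := by
        ext q
        simp only [hV, Finset.mem_filter, Finset.mem_insert, Finset.mem_singleton]
        constructor
        · rintro ⟨rfl | rfl | rfl | rfl, h⟩ <;> simp_all
        · rintro (rfl | rfl) <;> simp [e3, e4]
      rw [this, Finset.card_pair hl12]; exact even_two
    · have : V.filter (fun q => x.e q = 1) = {i1, i2} := by
        ext q
        simp only [hV, Finset.mem_filter, Finset.mem_insert, Finset.mem_singleton]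
        constructor
        · rintro ⟨rfl | rfl | rfl | rfl, h⟩ <;> simp_all
        · rintro (rfl | rfl) <;> simp [e1, e2]
      rw [this, Finset.card_pair hi12]; exact even_two
  obtain ⟨d, hd1, hd2, -, -, hd5⟩ := exists_root x.e V.card V rfl hVev
  have hiV : i ∉ V := by simp [hV, a1.symm, a2.symm, a3.symm, a4.symm]
  have hjV : j ∉ V := by simp [hV, b1.symm, b2.symm, b3.symm, b4.symm]
  have hdC : d ∈ Subgroup.centralizer ({x} : Set (SW ι)) :=
    hx.mem_cent.mpr ⟨Or.inl ⟨(hd2 i hiV).1, (hd2 j hjV).1⟩,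
      by rw [(hd2 i hiV).2, (hd2 j hjV).2], hd1⟩
  let X : ↥(Subgroup.centralizer ({x} : Set (SW ι))) :=
    ⟨x, Subgroup.mem_centralizer_singleton_iff.mpr rfl⟩
  let D : ↥(Subgroup.centralizer ({x} : Set (SW ι))) := ⟨d, hdC⟩
  have hfix : PairFix x i j (D * D : SW ι) := by
    refine ⟨(D * D).2, fun q _ _ => ?_⟩
    show (d * d).p q = q
    rw [hd5, base_p, Equiv.Perm.one_apply]
  have hxV : x * base (indv V) = ⟨x.e + indv V, x.p⟩ := by
    ext q
    · simp only [mul_e, base_e, hx.p_eq, Equiv.swap_inv, Pi.add_apply]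
      congr 1
      rcases eq_or_ne q i with rfl | h1
      · rw [Equiv.swap_apply_left, indv_apply, indv_apply, if_neg hiV, if_neg hjV]
      rcases eq_or_ne q j with rfl | h2
      · rw [Equiv.swap_apply_right, indv_apply, indv_apply, if_neg hiV, if_neg hjV]
      rw [Equiv.swap_apply_of_ne_of_ne h1 h2]
    · simp
  have hconj : IsConj x (x * base (indv V)) := by
    refine isConj_iff.mpr ⟨perm (Equiv.swap i1 l1 * Equiv.swap i2 l2), ?_⟩
    rw [conj_perm, hxV]
    have hπi : (Equiv.swap i1 l1 * Equiv.swap i2 l2) i = i := by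
      simp [Equiv.swap_apply_of_ne_of_ne a2.symm a4.symm,
        Equiv.swap_apply_of_ne_of_ne a1.symm a3.symm]
    have hπj : (Equiv.swap i1 l1 * Equiv.swap i2 l2) j = j := by
      simp [Equiv.swap_apply_of_ne_of_ne b2.symm b4.symm,
        Equiv.swap_apply_of_ne_of_ne b1.symm b3.symm]
    ext q
    · simp only [mul_inv_rev, Equiv.swap_inv, Equiv.Perm.mul_apply, Pi.add_apply, hV, indv_apply,
        Finset.mem_insert, Finset.mem_singleton]
      rcases eq_or_ne q i1 with rfl | h1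
      · simp [Equiv.swap_apply_of_ne_of_ne n23.symm hl12, e1, e3, z2_add_self]
      rcases eq_or_ne q l1 with rfl | h2
      · simp [Equiv.swap_apply_of_ne_of_ne hi12 n14, e1, e3]
      rcases eq_or_ne q i2 with rfl | h3
      · simp [Equiv.swap_apply_of_ne_of_ne hi12.symm n23, e2, e4, z2_add_self]
      rcases eq_or_ne q l2 with rfl | h4
      · simp [Equiv.swap_apply_of_ne_of_ne n14.symm hl12.symm, e2, e4]
      simp [Equiv.swap_apply_of_ne_of_ne h1 h2, Equiv.swap_apply_of_ne_of_ne h3 h4, h1, h2, h3, h4]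
    · show (_ * x.p * _) q = x.p q
      rw [hx.p_eq, Equiv.mul_swap_eq_swap_mul, hπi, hπj, mul_inv_cancel_right]
  have hX2 : x * x = 1 := by
    rw [mul_self_eq_one_iff, hx.p_eq]
    refine ⟨Equiv.swap_mul_self i j, fun q => ?_⟩
    rcases eq_or_ne q i with rfl | h1
    · rw [Equiv.swap_apply_left, hx.e_eq]
    rcases eq_or_ne q j with rfl | h2
    · rw [Equiv.swap_apply_right, hx.e_eq]
    rw [Equiv.swap_apply_of_ne_of_ne h1 h2]
  have hval : ((X * (D * D) : ↥(Subgroup.centralizer ({x} : Set (SW ι)))) : SW ι) =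
      x * base (indv V) := by
    show x * (d * d) = _
    rw [hd5]
    rfl
  have hinv : (X * (D * D)) * (X * (D * D)) = 1 := by
    apply Subtype.ext
    rw [Subgroup.coe_mul, hval, Subgroup.coe_one]
    obtain ⟨w, hw⟩ := isConj_iff.mp hconj
    rw [← hw, show w * x * w⁻¹ * (w * x * w⁻¹) = w * (x * x) * w⁻¹ by group, hX2]
    group
  have hr1 := σ.rel _ hinv
  rw [hval, map_mul, Subgroup.coe_mul, σ.map_x] at hr1
  obtain ⟨hp1, hp2⟩ := hx.image_sq σ.φ D hfix
  set w := (σ.φ (D * D) : SW ι) with hw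
  have hbase : (cc : SW ι) * w = base (1 + w.e) := by
    conv_lhs => rw [eq_base hp1]
    exact base_mul 1 w.e
  have hrx : Rel x cc := by
    have := σ.rel X (Subtype.ext hX2)
    rwa [σ.map_x] at this
  have hr2 : Rel (cc * w) cc := A.trans (A.symm hr1)
    (A.trans (A.symm (A.of_conj hX2 hconj)) hrx)
  have hz : w.e = 0 := by
    have h5 := A.rigid (1 + w.e) (by rw [← hbase, par_mul, par_cc hev, hp2, add_zero])
      (by rw [← hbase]; exact hr2)
    simpa using h5
  have hw1 : w = 1 := by rw [eq_base hp1, hz, base_zero]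
  have hDD : D * D = 1 := σ.φ.injective (Subtype.ext (by rw [← hw, hw1, map_one]; rfl))
  have h6 : (base (indv V) : SW ι) = 1 := by
    have := congrArg (fun q : ↥(Subgroup.centralizer ({x} : Set (SW ι))) => (q : SW ι)) hDD
    simp only [Subgroup.coe_mul, Subgroup.coe_one] at this
    exact hd5.symm.trans this
  have h7 := congrFun (base_inj (h6.trans base_zero.symm)) i1
  simp [indv, hV] at h7

end Cfsg.Agent.Kondo
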