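import Cfsg.Agent.Lib.Kondo.Minimal
import Cfsg.Agent.Lib.Kondo.Transfer
import Mathlib.GroupTheory.Index

/-!
# Fusion of involutions in a group with an involution centralizer covering `2 ≀ Sym ι`
-/

set_option autoImplicit false
set_option linter.style.haveILetI false

namespace Cfsg.Agent.Kondo

open SW

/-- A finite group with a central involution `t` of a Sylow 2-subgroup, whose centralizer maps onto
`2 ≀ Sym ι` with kernel of odd order. -/
structure Setup (G : Type*) [Group G] (ι : Type) where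
  /-- the involution -/
  t : G
  sq_t : t * t = 1
  /-- the map of the centralizer -/
  f : ↥(Subgroup.centralizer ({t} : Set G)) →* SW ι
  surj : Function.Surjective f
  ker_odd : Odd (Nat.card f.ker)
  f_t : f ⟨t, Subgroup.mem_centralizer_singleton_iff.mpr rfl⟩ = SW.cc
  sylow : ∃ S : Sylow 2 G, (S : Subgroup G) ≤ Subgroup.centralizer ({t} : Set G)
  no_two : ∀ H : Subgroup G, H.Normal → H.index ≠ 2

namespace Setup

variable {G : Type*} [Group G] [Finite G] {ι : Type} [Fintype ι] (D : Setup G ι)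

/-- The centralizer of `t`. -/
abbrev H : Subgroup G := Subgroup.centralizer ({D.t} : Set G)

/-- `t` as an element of its centralizer. -/
def tH : D.H := ⟨D.t, Subgroup.mem_centralizer_singleton_iff.mpr rfl⟩

omit [Finite G] [Fintype ι] in
theorem tH_comm (h : D.H) : Commute D.tH h :=
  Subtype.ext (Subgroup.mem_centralizer_singleton_iff.mp h.2).symm

/-- Fusion in `G` between involutions of `2 ≀ Sym ι`. -/
def Rel (x y : SW ι) : Prop :=
  ∃ a b : D.H, a * a = 1 ∧ b * b = 1 ∧ D.f a = x ∧ D.f b = y ∧ IsConj (a : G) (b : G)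

omit [Fintype ι] in
theorem exists_lift {x : SW ι} (hx : x * x = 1) : ∃ a : D.H, a * a = 1 ∧ D.f a = x := by
  obtain ⟨a, rfl⟩ := D.surj x
  have hk : a * a ∈ D.f.ker := by rw [MonoidHom.mem_ker, map_mul, hx]
  have hodd : Odd (orderOf (a * a)) := D.ker_odd.of_dvd_nat
    (by rw [← Subgroup.orderOf_mk (a * a) hk]; exact orderOf_dvd_natCard _)
  refine ⟨a ^ orderOf (a * a), ?_, ?_⟩
  · rw [← (Commute.refl a).mul_pow, pow_orderOf_eq_one]
  · obtain ⟨k, hk'⟩ := hodd
    rw [hk', map_pow, pow_succ, pow_mul, pow_two, hx, one_pow, one_mul]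

omit [Fintype ι] in
theorem lift_conj {a b : D.H} (ha : a * a = 1) (hb : b * b = 1) (h : D.f a = D.f b) :
    ∃ k ∈ D.f.ker, k * a * k⁻¹ = b := by
  have hk : a * b ∈ D.f.ker := by
    rw [MonoidHom.mem_ker, map_mul, ← h, ← map_mul, ha, map_one]
  have hodd : Odd (orderOf (a * b)) := D.ker_odd.of_dvd_nat
    (by rw [← Subgroup.orderOf_mk (a * b) hk]; exact orderOf_dvd_natCard _)
  obtain ⟨m, hm⟩ := hodd
  refine ⟨(a * b) ^ m, pow_mem hk m, ?_⟩
  have hai : a⁻¹ = a := inv_eq_of_mul_eq_one_right ha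
  have hbi : b⁻¹ = b := inv_eq_of_mul_eq_one_right hb
  have hsc : SemiconjBy a (a * b)⁻¹ (a * b) := by
    show a * (a * b)⁻¹ = a * b * a
    rw [mul_inv_rev, hai, hbi, mul_assoc]
  have h1 : a * ((a * b) ^ m)⁻¹ = (a * b) ^ m * a := by
    rw [← inv_pow]; exact (hsc.pow_right m).eq
  have h2 : (a * b) ^ (2 * m) = (a * b)⁻¹ := by
    apply eq_inv_of_mul_eq_one_left
    rw [← pow_succ, ← hm, pow_orderOf_eq_one]
  rw [mul_assoc, h1, ← mul_assoc, ← pow_add, ← two_mul, h2, mul_inv_rev, hai, hbi, mul_assoc, ha,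
    mul_one]

omit [Finite G] [Fintype ι] in
theorem coe_conj (k a : D.H) : ((k * a * k⁻¹ : D.H) : G) = (k : G) * a * (k : G)⁻¹ := rfl

omit [Fintype ι] in
theorem isConj_of_f {a b : D.H} (ha : a * a = 1) (hb : b * b = 1)
    (h : IsConj (D.f a) (D.f b)) : IsConj (a : G) (b : G) := by
  obtain ⟨w, hw⟩ := isConj_iff.mp h
  obtain ⟨c, rfl⟩ := D.surj w
  have h1 : c * a * c⁻¹ * (c * a * c⁻¹) = 1 := by
    rw [show c * a * c⁻¹ * (c * a * c⁻¹) = c * (a * a) * c⁻¹ by group, ha]; group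
  obtain ⟨k, -, hk⟩ := D.lift_conj h1 hb (by rw [map_mul, map_mul, map_inv, hw])
  refine isConj_iff.mpr ⟨(k * c : D.H), ?_⟩
  rw [← hk]
  simp [mul_assoc]

omit [Fintype ι] in
theorem rel_of_isConj {x y : SW ι} (hx : x * x = 1) (h : IsConj x y) : D.Rel x y := by
  obtain ⟨w, hw⟩ := isConj_iff.mp h
  have hy : y * y = 1 := by
    rw [← hw, show w * x * w⁻¹ * (w * x * w⁻¹) = w * (x * x) * w⁻¹ by group, hx]; group
  obtain ⟨a, ha, rfl⟩ := D.exists_lift hx
  obtain ⟨b, hb, rfl⟩ := D.exists_lift hy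
  exact ⟨a, b, ha, hb, rfl, rfl, D.isConj_of_f ha hb h⟩

omit [Finite G] [Fintype ι] in
theorem Rel.symm {x y : SW ι} (h : D.Rel x y) : D.Rel y x := by
  obtain ⟨a, b, ha, hb, hax, hby, hc⟩ := h
  exact ⟨b, a, hb, ha, hby, hax, hc.symm⟩

omit [Fintype ι] in
theorem Rel.trans {x y z : SW ι} (h : D.Rel x y) (h' : D.Rel y z) : D.Rel x z := by
  obtain ⟨a, b, ha, hb, hax, hby, hc⟩ := h
  obtain ⟨b', c, hb', hc', hby', hcz, hc2⟩ := h'
  exact ⟨a, c, ha, hc', hax, hcz,
    (hc.trans (D.isConj_of_f hb hb' (by rw [hby, hby']))).trans hc2⟩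

omit [Fintype ι] in
theorem isConj_of_rel {a b : D.H} (ha : a * a = 1) (hb : b * b = 1)
    (h : D.Rel (D.f a) (D.f b)) : IsConj (a : G) (b : G) := by
  obtain ⟨a', b', ha', hb', h1, h2, hc⟩ := h
  exact ((D.isConj_of_f ha ha' (by rw [h1])).trans hc).trans (D.isConj_of_f hb' hb (by rw [h2]))

omit [Fintype ι] in
theorem eq_tH {a : D.H} (ha : a * a = 1) (h : D.f a = cc) : a = D.tH := by
  obtain ⟨k, -, hk⟩ := D.lift_conj (Subtype.ext D.sq_t : D.tH * D.tH = 1) ha
    (by rw [h]; exact D.f_t)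
  rw [← hk, ← (D.tH_comm k).eq, mul_inv_cancel_right]

omit [Fintype ι] in
theorem eq_one_of_two {P : Subgroup D.H} (hP : IsPGroup 2 P) {a : D.H} (ha : a ∈ P)
    (h : D.f a = 1) : a = 1 := by
  obtain ⟨k, hk⟩ := hP ⟨a, ha⟩
  have h1 : orderOf a ∣ 2 ^ k := orderOf_dvd_of_pow_eq_one (congrArg Subtype.val hk)
  have h2 : orderOf a ∣ Nat.card D.f.ker := by
    rw [← Subgroup.orderOf_mk a (MonoidHom.mem_ker.mpr h)]; exact orderOf_dvd_natCard _
  have hcop : Nat.Coprime (2 ^ k) (Nat.card D.f.ker) :=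
    (Nat.coprime_two_left.mpr D.ker_odd).pow_left k
  exact orderOf_eq_one_iff.mp (Nat.eq_one_of_dvd_coprimes hcop h1 h2)

omit [Fintype ι] in
theorem card_map {P : Subgroup D.H} (hP : IsPGroup 2 P) :
    Nat.card (P.map D.f) = Nat.card P := by
  refine (Nat.card_congr (Equiv.ofBijective (fun x : P => (⟨D.f x, x, x.2, rfl⟩ : P.map D.f))
    ⟨fun x y hxy => ?_, fun y => ?_⟩)).symm
  · have h1 : D.f x = D.f y := congrArg Subtype.val hxy
    have h2 := D.eq_one_of_two hP (mul_mem x.2 (inv_mem y.2))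
      (by rw [map_mul, map_inv, h1, mul_inv_cancel])
    exact Subtype.ext (mul_inv_eq_one.mp h2)
  · obtain ⟨x, hx, hxy⟩ := y.2
    exact ⟨⟨x, hx⟩, Subtype.ext hxy⟩

omit [Fintype ι] in
theorem exists_two_lift {R : Subgroup (SW ι)} (hR : IsPGroup 2 R) :
    ∃ P : Subgroup D.H, IsPGroup 2 P ∧ P.map D.f = R := by
  haveI : Fact (Nat.Prime 2) := ⟨Nat.prime_two⟩
  haveI : Finite R := Finite.of_surjective (D.f.subgroupComap R)
    (D.f.subgroupComap_surjective_of_surjective R D.surj)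
  obtain ⟨S⟩ : Nonempty (Sylow 2 (R.comap D.f)) := inferInstance
  refine ⟨(S : Subgroup (R.comap D.f)).map (R.comap D.f).subtype, S.isPGroup'.map _, ?_⟩
  have hidx : ((S : Subgroup (R.comap D.f)).map (D.f.subgroupComap R)).index = 1 := by
    have h1 := Subgroup.index_map_dvd (S : Subgroup (R.comap D.f))
      (D.f.subgroupComap_surjective_of_surjective R D.surj)
    obtain ⟨k, hk⟩ := IsPGroup.iff_card.mp hR
    have h2 : ((S : Subgroup (R.comap D.f)).map (D.f.subgroupComap R)).index ∣ 2 ^ k :=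
      hk ▸ Subgroup.index_dvd_card _
    have hodd : Odd ((S : Subgroup (R.comap D.f)).map (D.f.subgroupComap R)).index :=
      (Nat.odd_iff.mpr (Nat.two_dvd_ne_zero.mp S.not_dvd_index)).of_dvd_nat h1
    exact Nat.Coprime.eq_one_of_dvd ((Nat.coprime_two_right.mpr hodd).pow_right k) h2
  have htop := Subgroup.index_eq_one.mp hidx
  refine le_antisymm ?_ fun y hy => ?_
  · rintro _ ⟨_, ⟨x, -, rfl⟩, rfl⟩
    exact x.2
  · have h3 : (⟨y, hy⟩ : R) ∈ (S : Subgroup (R.comap D.f)).map (D.f.subgroupComap R) := by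
      rw [htop]; exact Subgroup.mem_top _
    obtain ⟨x, hx, hxy⟩ := h3
    exact ⟨x, ⟨x, hx, rfl⟩, congrArg Subtype.val hxy⟩

omit [Fintype ι] in
theorem mem_tH {P : Subgroup D.H} (hP : IsPGroup 2 P) {R : Subgroup (SW ι)} (hPR : P.map D.f = R)
    (hcc : cc ∈ R) : D.tH ∈ P := by
  rw [← hPR] at hcc
  obtain ⟨p, hp, hpc⟩ := hcc
  have h : p * p = 1 := D.eq_one_of_two hP (mul_mem hp hp)
    (by rw [map_mul, hpc]; exact base_mul_self 1)
  rwa [← D.eq_tH h hpc]

omit [Fintype ι] in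
theorem exists_mem_lift {P : Subgroup D.H} (hP : IsPGroup 2 P) {R : Subgroup (SW ι)}
    (hPR : P.map D.f = R) {x : SW ι} (hx : x ∈ R) (hxx : x * x = 1) :
    ∃ a ∈ P, D.f a = x ∧ a * a = 1 := by
  rw [← hPR] at hx
  obtain ⟨a, ha, rfl⟩ := hx
  exact ⟨a, ha, rfl, D.eq_one_of_two hP (mul_mem ha ha) (by rw [map_mul, hxx])⟩

/-- A 2-subgroup of the centralizers of `t` and of a lift of `x` is no larger than `R`. -/
theorem card_le {R : Subgroup (SW ι)} {x : SW ι}
    (hR : IsMax2 R (Subgroup.centralizer {x})) {a : D.H} (ha : D.f a = x) {Q : Subgroup G}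
    (hQ : IsPGroup 2 Q) (hQt : Q ≤ D.H) (hQa : Q ≤ Subgroup.centralizer {(a : G)}) :
    Nat.card Q ≤ Nat.card R := by
  have hQ' : IsPGroup 2 (Q.subgroupOf D.H) :=
    hQ.comap_of_injective D.H.subtype D.H.subtype_injective
  rw [← Nat.card_congr (Subgroup.subgroupOfEquivOfLe hQt).toEquiv, ← D.card_map hQ']
  refine hR.2.2 _ ?_ (hQ'.map _)
  rintro _ ⟨q, hq, rfl⟩
  rw [Subgroup.mem_centralizer_singleton_iff, ← ha, ← map_mul, ← map_mul]
  congr 1
  exact Subtype.ext (Subgroup.mem_centralizer_singleton_iff.mp (hQa (Subgroup.mem_subgroupOf.mp hq)))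

/-- The image in `G`. -/
abbrev up (P : Subgroup D.H) : Subgroup G := P.map D.H.subtype

omit [Fintype ι] in
theorem card_up {P : Subgroup D.H} (hP : IsPGroup 2 P) {R : Subgroup (SW ι)}
    (hPR : P.map D.f = R) : Nat.card (D.up P) = Nat.card R := by
  rw [Subgroup.card_map_of_injective D.H.subtype_injective, ← hPR, D.card_map hP]

/-- An element of a 2-subgroup `Q` of the centralizer of a lift of `x` that moves out of the lift
of `R` does not centralize `t`. -/
theorem not_comm {R : Subgroup (SW ι)} {x : SW ι}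
    (hR : IsMax2 R (Subgroup.centralizer {x})) {a : D.H} (ha : D.f a = x) {P : Subgroup D.H}
    (hP : IsPGroup 2 P) (hPR : P.map D.f = R) {Q : Subgroup G} (hQ : IsPGroup 2 Q)
    (hPQ : D.up P ≤ Q) (hQa : Q ≤ Subgroup.centralizer {(a : G)}) {g : G} (hg : g ∈ Q)
    (hgP : g ∉ D.up P) : g ∉ D.H := by
  intro hgH
  have h1 : D.up P ≤ Q ⊓ D.H := le_inf hPQ (Subgroup.map_subtype_le _)
  have h2 := D.card_le hR ha (hQ.to_le inf_le_left) inf_le_right (inf_le_left.trans hQa)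
  rw [← D.card_up hP hPR] at h2
  exact hgP ((Subgroup.eq_of_le_of_card_ge h1 h2).symm ▸ ⟨hg, hgH⟩)

variable [DecidableEq ι]

/-- An element mapping the lift of a good subgroup into the lift of another fixes `t`. -/
theorem fix_t {R R' : Subgroup (SW ι)} (hR : Good R) (hR' : Good R') {P P' : Subgroup D.H}
    (hP : IsPGroup 2 P) (hPR : P.map D.f = R) (hP' : IsPGroup 2 P') (hPR' : P'.map D.f = R')
    {g : G} (hg : ∀ x ∈ D.up P, g * x * g⁻¹ ∈ D.up P') (hc : Nat.card P = Nat.card P') :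
    g * D.t * g⁻¹ = D.t := by
  have hmem : ∀ x : P, g * ((x : D.H) : G) * g⁻¹ ∈ D.up P' := fun x => hg _ ⟨x, x.2, rfl⟩
  choose y hy hyx using fun x : P => Subgroup.mem_map.mp (hmem x)
  simp only [Subgroup.coe_subtype] at hyx
  let θ : P →* P' := MonoidHom.mk' (fun x => ⟨y x, hy x⟩) fun u v => Subtype.ext (Subtype.ext (by
    simp only [Subgroup.coe_mul, hyx]; group))
  have hθ : Function.Injective θ := fun u v huv => by
    have h1 : ((y u : D.H) : G) = y v := congrArg (fun q : P' => ((q : D.H) : G)) huv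
    rw [hyx, hyx] at h1
    exact Subtype.ext (Subtype.ext (mul_left_cancel (mul_right_cancel h1)))
  have hθb : Function.Bijective θ :=
    (Nat.bijective_iff_injective_and_card θ).mpr ⟨hθ, hc⟩
  let e : ∀ (Q : Subgroup D.H), IsPGroup 2 Q → ∀ S, Q.map D.f = S → Q ≃* S := fun Q hQ S hS =>
    (MulEquiv.ofBijective (D.f.subgroupMap Q) ⟨fun u v huv => by
      have h1 : D.f u = D.f v := congrArg Subtype.val huv
      have h2 := D.eq_one_of_two hQ (mul_mem u.2 (inv_mem v.2))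
        (by rw [map_mul, map_inv, h1, mul_inv_cancel])
      exact Subtype.ext (mul_inv_eq_one.mp h2),
      D.f.subgroupMap_surjective Q⟩).trans (MulEquiv.subgroupCongr hS)
  let ψ : R ≃* R' := ((e P hP R hPR).symm.trans (MulEquiv.ofBijective θ hθb)).trans (e P' hP' R' hPR')
  have htP := D.mem_tH hP hPR (hR.base_mem 1)
  have h0 : e P hP R hPR ⟨D.tH, htP⟩ = ⟨cc, hR.base_mem 1⟩ := Subtype.ext D.f_t
  have h1 := hR.map_cc hR' ψ
  rw [← h0] at h1
  simp only [ψ, MulEquiv.trans_apply, MulEquiv.symm_apply_apply] at h1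
  have h2 : D.f (y ⟨D.tH, htP⟩) = cc := h1
  have h3 : y ⟨D.tH, htP⟩ * y ⟨D.tH, htP⟩ = 1 := by
    apply Subtype.ext
    simp only [Subgroup.coe_mul, hyx, Subgroup.coe_one, tH]
    rw [show g * D.t * g⁻¹ * (g * D.t * g⁻¹) = g * (D.t * D.t) * g⁻¹ by group, D.sq_t]; group
  have h4 := congrArg Subtype.val (D.eq_tH h3 h2)
  rw [hyx] at h4
  exact h4

/-- The lift of a good largest 2-subgroup is a largest 2-subgroup in the centralizer in `G`. -/
theorem isMax2_up {R : Subgroup (SW ι)} {x : SW ι} (hG : Good R)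
    (hR : IsMax2 R (Subgroup.centralizer {x})) {a : D.H} (ha : D.f a = x) {P : Subgroup D.H}
    (hP : IsPGroup 2 P) (hPR : P.map D.f = R) (hPa : D.up P ≤ Subgroup.centralizer {(a : G)}) :
    IsMax2 (D.up P) (Subgroup.centralizer {(a : G)}) := by
  refine ⟨hPa, hP.map _, fun Q hQ hQp => ?_⟩
  obtain ⟨Q', hPQ', hQ'⟩ := exists_max2 (Subgroup.centralizer {(a : G)}) (D.up P) hPa (hP.map _)
  refine (hQ'.2.2 Q hQ hQp).trans ?_
  by_contra hlt
  obtain ⟨g, hgQ, hgP, -, hgn⟩ := exists_normalizer_step hPQ' hQ'.2.1 (not_le.mp hlt)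
  refine D.not_comm hR ha hP hPR hQ'.2.1 hPQ' hQ'.1 hgQ hgP ?_
  rw [Subgroup.mem_centralizer_singleton_iff]
  have := D.fix_t hG hG hP hPR hP hPR hgn rfl
  exact mul_inv_eq_iff_eq_mul.mp this

/-- Fused elements with good centralizers are conjugate in `2 ≀ Sym ι`. -/
theorem rigid {x y : SW ι} {R R' : Subgroup (SW ι)} (hG : Good R) (hG' : Good R')
    (hR : IsMax2 R (Subgroup.centralizer {x})) (hR' : IsMax2 R' (Subgroup.centralizer {y}))
    (hxR : x ∈ R) (hyR : y ∈ R') (hxx : x * x = 1) (hyy : y * y = 1) (h : D.Rel x y) :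
    IsConj x y := by
  obtain ⟨P, hP, hPR⟩ := D.exists_two_lift hR.2.1
  obtain ⟨P', hP', hPR'⟩ := D.exists_two_lift hR'.2.1
  obtain ⟨a, haP, rfl, haa⟩ := D.exists_mem_lift hP hPR hxR hxx
  obtain ⟨b, hbP, rfl, hbb⟩ := D.exists_mem_lift hP' hPR' hyR hyy
  have hcen : ∀ (Q : Subgroup D.H) (S : Subgroup (SW ι)) (z : D.H), IsPGroup 2 Q →
      Q.map D.f = S → z ∈ Q → S ≤ Subgroup.centralizer {D.f z} →
      D.up Q ≤ Subgroup.centralizer {(z : G)} := by
    rintro Q S z hQ hQS hz hS _ ⟨q, hq, rfl⟩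
    rw [Subgroup.mem_centralizer_singleton_iff]
    have h1 := Subgroup.mem_centralizer_singleton_iff.mp (hS (hQS ▸ ⟨q, hq, rfl⟩ : D.f q ∈ S))
    have h2 := D.eq_one_of_two hQ (mul_mem (mul_mem hq hz) (inv_mem (mul_mem hz hq)))
      (by rw [map_mul, map_mul, map_inv, map_mul, h1, mul_inv_cancel])
    exact congrArg Subtype.val (mul_inv_eq_one.mp h2)
  have hm := D.isMax2_up hG hR rfl hP hPR (hcen P R a hP hPR haP hR.1)
  have hm' := D.isMax2_up hG' hR' rfl hP' hPR' (hcen P' R' b hP' hPR' hbP hR'.1)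
  obtain ⟨g, hg⟩ := isConj_iff.mp (D.isConj_of_rel haa hbb h)
  have hsub : ∀ v ∈ D.up P, g * v * g⁻¹ ∈ Subgroup.centralizer {(b : G)} := by
    intro v hv
    rw [Subgroup.mem_centralizer_singleton_iff, ← hg]
    have h1 := Subgroup.mem_centralizer_singleton_iff.mp (hm.1 hv)
    calc g * v * g⁻¹ * (g * a * g⁻¹) = g * (v * a) * g⁻¹ := by group
      _ = g * (a * v) * g⁻¹ := by rw [h1]
      _ = g * a * g⁻¹ * (g * v * g⁻¹) := by group
  have hmap : IsMax2 ((D.up P).map (MulAut.conj g).toMonoidHom)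
      (Subgroup.centralizer {(b : G)}) := by
    refine ⟨?_, hm.2.1.map _, fun Q hQ hQp => ?_⟩
    · rintro _ ⟨v, hv, rfl⟩; exact hsub v hv
    · rw [Subgroup.card_map_of_injective (MulAut.conj g).injective]
      rw [← Subgroup.card_map_of_injective (f := (MulAut.conj g⁻¹).toMonoidHom)
        (MulAut.conj g⁻¹).injective (K := Q)]
      refine hm.2.2 _ ?_ (hQp.map _)
      rintro _ ⟨v, hv, rfl⟩
      show g⁻¹ * v * g⁻¹⁻¹ ∈ _
      rw [Subgroup.mem_centralizer_singleton_iff, inv_inv]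
      have h1 := Subgroup.mem_centralizer_singleton_iff.mp (hQ hv)
      rw [← hg] at h1
      calc g⁻¹ * v * g * (a : G) = g⁻¹ * (v * (g * a * g⁻¹)) * g := by group
        _ = g⁻¹ * (g * a * g⁻¹ * v) * g := by rw [h1]
        _ = (a : G) * (g⁻¹ * v * g) := by group
  obtain ⟨k, hk, hkP⟩ := hmap.conj hm'
  have hcard : Nat.card P = Nat.card P' := by
    have h1 := congrArg (fun S : Subgroup G => Nat.card S) hkP
    rwa [Subgroup.card_map_of_injective (MulAut.conj k).injective,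
      Subgroup.card_map_of_injective (MulAut.conj g).injective,
      Subgroup.card_map_of_injective D.H.subtype_injective,
      Subgroup.card_map_of_injective D.H.subtype_injective] at h1
  have hfix := D.fix_t hG hG' hP hPR hP' hPR' (g := k * g) (fun v hv => by
    rw [show k * g * v * (k * g)⁻¹ = k * (g * v * g⁻¹) * k⁻¹ by group, ← show _ = D.up P' from hkP]
    exact ⟨_, ⟨v, hv, rfl⟩, rfl⟩) hcard
  have hkH : k * g ∈ D.H :=
    Subgroup.mem_centralizer_singleton_iff.mpr (mul_inv_eq_iff_eq_mul.mp hfix)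
  refine isConj_iff.mpr ⟨D.f ⟨k * g, hkH⟩, ?_⟩
  rw [← map_inv, ← map_mul, ← map_mul]
  congr 1
  apply Subtype.ext
  simp only [Subgroup.coe_mul, InvMemClass.coe_inv]
  calc k * g * (a : G) * (k * g)⁻¹ = k * (g * a * g⁻¹) * k⁻¹ := by group
    _ = k * b * k⁻¹ := by rw [hg]
    _ = b * k * k⁻¹ := by rw [Subgroup.mem_centralizer_singleton_iff.mp hk]
    _ = b := by group

end Setup

end Cfsg.Agent.Kondo
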