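import Cfsg.Agent.Lib.Kondo.Setup

/-!
# Automorphisms exchanging the central involution with a fused one
-/

set_option autoImplicit false
set_option linter.style.haveILetI false

namespace Cfsg.Agent.Kondo

open SW

/-- An automorphism of the centralizer of `x` exchanging `x` and `cc`, respecting `Rel`. -/
structure Swap {ι : Type} (Rel : SW ι → SW ι → Prop) (x : SW ι) where
  /-- the automorphism -/
  φ : ↥(Subgroup.centralizer ({x} : Set (SW ι))) ≃* ↥(Subgroup.centralizer ({x} : Set (SW ι)))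
  map_x : (φ ⟨x, Subgroup.mem_centralizer_singleton_iff.mpr rfl⟩ : SW ι) = cc
  map_cc : (φ ⟨cc, Subgroup.mem_centralizer_singleton_iff.mpr (cc_comm x).eq⟩ : SW ι) = x
  rel : ∀ v : ↥(Subgroup.centralizer ({x} : Set (SW ι))), v * v = 1 → Rel v (φ v)

namespace Setup

variable {G : Type*} [Group G] [Finite G] {ι : Type} [Fintype ι] (D : Setup G ι)

omit [Fintype ι] in
theorem exists_lift_comm {a : D.H} (ha : a * a = 1) {v : SW ι} (hv : Commute v (D.f a)) :
    ∃ h : D.H, D.f h = v ∧ Commute h a := by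
  obtain ⟨h, rfl⟩ := D.surj v
  have h1 : h * a * h⁻¹ * (h * a * h⁻¹) = 1 := by
    rw [show h * a * h⁻¹ * (h * a * h⁻¹) = h * (a * a) * h⁻¹ by group, ha]; group
  have h2 : D.f (h * a * h⁻¹) = D.f a := by
    rw [map_mul, map_mul, map_inv, hv.eq, mul_inv_cancel_right]
  obtain ⟨k, hk, hka⟩ := D.lift_conj h1 ha h2
  refine ⟨k * h, by rw [map_mul, MonoidHom.mem_ker.mp hk, one_mul], ?_⟩
  show k * h * a = a * (k * h)
  calc k * h * a = k * (h * a * h⁻¹) * k⁻¹ * (k * h) := by group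
    _ = a * (k * h) := by rw [hka]

omit [Fintype ι] in
/-- A swapping element gives an automorphism. -/
theorem exists_swap {a : D.H} (ha : a * a = 1) {g : G} (h1 : g * D.t * g⁻¹ = a)
    (h2 : g * (a : G) * g⁻¹ = D.t)
    (hcore : ∀ N : Subgroup (SW ι), N ≤ Subgroup.centralizer {D.f a} →
      (∀ c ∈ Subgroup.centralizer ({D.f a} : Set (SW ι)), ∀ n ∈ N, c * n * c⁻¹ ∈ N) →
      Odd (Nat.card N) → N = ⊥) :
    Nonempty (Swap D.Rel (D.f a)) := by
  classical
  haveI : Fintype G := Fintype.ofFinite G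
  haveI : Finite (SW ι) := Finite.of_surjective D.f D.surj
  let CH : Subgroup D.H := Subgroup.centralizer {a}
  let C : Subgroup (SW ι) := Subgroup.centralizer {D.f a}
  let F : CH →* C := MonoidHom.mk' (fun h => ⟨D.f h, by
      rw [Subgroup.mem_centralizer_singleton_iff, ← map_mul, ← map_mul,
        Subgroup.mem_centralizer_singleton_iff.mp h.2]⟩)
    (fun u v => Subtype.ext (map_mul D.f _ _))
  have hF : Function.Surjective F := by
    intro v
    obtain ⟨h, hhv, hha⟩ :=
      D.exists_lift_comm ha (show Commute (v : SW ι) (D.f a) from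
        Subgroup.mem_centralizer_singleton_iff.mp v.2)
    exact ⟨⟨h, Subgroup.mem_centralizer_singleton_iff.mpr hha.eq⟩, Subtype.ext hhv⟩
  have hcj : ∀ h : CH, g * ((h : D.H) : G) * g⁻¹ ∈ D.H := by
    intro h
    rw [Subgroup.mem_centralizer_singleton_iff]
    have e := congrArg Subtype.val (Subgroup.mem_centralizer_singleton_iff.mp h.2)
    simp only [Subgroup.coe_mul] at e
    calc g * ((h : D.H) : G) * g⁻¹ * D.t
        = g * ((h : D.H) : G) * g⁻¹ * (g * (a : G) * g⁻¹) := by rw [h2]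
      _ = g * (((h : D.H) : G) * a) * g⁻¹ := by group
      _ = g * ((a : G) * (h : D.H)) * g⁻¹ := by rw [e]
      _ = g * (a : G) * g⁻¹ * (g * ((h : D.H) : G) * g⁻¹) := by group
      _ = D.t * (g * ((h : D.H) : G) * g⁻¹) := by rw [h2]
  have hcja : ∀ h : CH, (⟨_, hcj h⟩ : D.H) ∈ CH := by
    intro h
    refine Subgroup.mem_centralizer_singleton_iff.mpr (Subtype.ext ?_)
    have e := Subgroup.mem_centralizer_singleton_iff.mp (h : D.H).2
    simp only [Subgroup.coe_mul]
    calc g * ((h : D.H) : G) * g⁻¹ * (a : G)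
        = g * ((h : D.H) : G) * g⁻¹ * (g * D.t * g⁻¹) := by rw [h1]
      _ = g * (((h : D.H) : G) * D.t) * g⁻¹ := by group
      _ = g * (D.t * (h : D.H)) * g⁻¹ := by rw [e]
      _ = g * D.t * g⁻¹ * (g * ((h : D.H) : G) * g⁻¹) := by group
      _ = (a : G) * (g * ((h : D.H) : G) * g⁻¹) := by rw [h1]
  let θ : CH →* CH := MonoidHom.mk' (fun h => ⟨⟨_, hcj h⟩, hcja h⟩) fun u v =>
    Subtype.ext (Subtype.ext (by simp only [Subgroup.coe_mul]; group))
  have hθ : Function.Bijective θ := by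
    refine Finite.injective_iff_bijective.mp fun u v huv => ?_
    have e : g * ((u : D.H) : G) * g⁻¹ = g * ((v : D.H) : G) * g⁻¹ :=
      congrArg (fun q : CH => ((q : D.H) : G)) huv
    exact Subtype.ext (Subtype.ext (mul_left_cancel (mul_right_cancel e)))
  have hkill : F.ker ≤ (F.comp θ).ker := by
    let N : Subgroup (SW ι) := (F.ker.map (F.comp θ)).map C.subtype
    have hN : N = ⊥ := by
      refine hcore N (Subgroup.map_subtype_le _) ?_ ?_
      · intro c hc n hn
        obtain ⟨n', ⟨k, hk, rfl⟩, rfl⟩ := hn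
        obtain ⟨h', hh'⟩ := hF ⟨c, hc⟩
        obtain ⟨h, rfl⟩ := hθ.2 h'
        refine ⟨F (θ (h * k * h⁻¹)), ⟨h * k * h⁻¹, ?_, rfl⟩, ?_⟩
        · have hk' : F k = 1 := hk
          show F (h * k * h⁻¹) = 1
          rw [map_mul, map_mul, hk', mul_one, ← map_mul, mul_inv_cancel, map_one]
        · simp only [map_mul, map_inv, MonoidHom.comp_apply, hh', Subgroup.coe_subtype]
      · refine Odd.of_dvd_nat ?_ ((Subgroup.card_map_dvd _ _).trans (Subgroup.card_map_dvd _ _))
        refine D.ker_odd.of_dvd_nat ?_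
        rw [← Subgroup.card_map_of_injective (f := CH.subtype) CH.subtype_injective (K := F.ker)]
        refine Subgroup.card_dvd_of_le ?_
        rintro _ ⟨k, hk, rfl⟩
        exact congrArg Subtype.val (show F k = 1 from hk)
    intro k hk
    have hk2 : ((F (θ k) : C) : SW ι) ∈ N := ⟨F (θ k), ⟨k, hk, rfl⟩, rfl⟩
    rw [hN, Subgroup.mem_bot] at hk2
    exact Subtype.ext hk2
  let φ₀ : C →* C := F.liftOfSurjective hF ⟨F.comp θ, hkill⟩
  have hφ₀ : ∀ h, φ₀ (F h) = F (θ h) := fun h =>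
    MonoidHom.liftOfRightInverse_comp_apply _ _ _ ⟨F.comp θ, hkill⟩ h
  have hsurj : Function.Surjective φ₀ := by
    intro v
    obtain ⟨h', rfl⟩ := hF v
    obtain ⟨h, rfl⟩ := hθ.2 h'
    exact ⟨F h, hφ₀ h⟩
  refine ⟨⟨MulEquiv.ofBijective φ₀ (Finite.surjective_iff_bijective.mp hsurj |>.1 |> fun hi =>
    ⟨hi, hsurj⟩), ?_, ?_, ?_⟩⟩
  · have ea : (⟨D.f a, Subgroup.mem_centralizer_singleton_iff.mpr rfl⟩ : C)
        = F ⟨a, Subgroup.mem_centralizer_singleton_iff.mpr rfl⟩ := rfl
    show ((φ₀ _ : C) : SW ι) = cc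
    rw [ea, hφ₀]
    refine (congrArg D.f (Subtype.ext h2 : (⟨_, hcj _⟩ : D.H) = D.tH)).trans D.f_t
  · have ec : (⟨cc, Subgroup.mem_centralizer_singleton_iff.mpr (cc_comm (D.f a)).eq⟩ : C)
        = F ⟨D.tH, Subgroup.mem_centralizer_singleton_iff.mpr (D.tH_comm a).eq⟩ :=
      Subtype.ext D.f_t.symm
    show ((φ₀ _ : C) : SW ι) = D.f a
    rw [ec, hφ₀]
    exact congrArg D.f (Subtype.ext h1)
  · intro v hv
    obtain ⟨h, rfl⟩ := hF v
    have hker : (h : D.H) * h ∈ D.f.ker := by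
      rw [MonoidHom.mem_ker]
      exact (map_mul D.f _ _).trans (congrArg Subtype.val hv)
    have hodd : Odd (orderOf ((h : D.H) * h)) := D.ker_odd.of_dvd_nat
      (by rw [← Subgroup.orderOf_mk _ hker]; exact orderOf_dvd_natCard _)
    set m := orderOf ((h : D.H) * h)
    have hm : h ^ m * h ^ m = 1 := by
      apply Subtype.ext
      rw [← (Commute.refl h).mul_pow, SubgroupClass.coe_pow, Subgroup.coe_mul]
      exact pow_orderOf_eq_one _
    have hFm : F h = F (h ^ m) := by
      obtain ⟨k, hk⟩ := hodd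
      rw [map_pow, hk, pow_succ, pow_mul, pow_two, hv, one_pow, one_mul]
    rw [hFm]
    show D.Rel _ ((φ₀ (F (h ^ m)) : C) : SW ι)
    rw [hφ₀]
    refine ⟨(h ^ m : CH), (θ (h ^ m) : CH), congrArg Subtype.val hm, ?_, rfl, rfl, ?_⟩
    · refine congrArg Subtype.val (?_ : θ (h ^ m) * θ (h ^ m) = 1)
      rw [← map_mul, hm, map_one]
    · exact isConj_iff.mpr ⟨g, rfl⟩

variable [DecidableEq ι]

/-- The Thompson transfer lemma yields an involution central in `R`, fused to `t` by an element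
exchanging the two. -/
theorem exists_swap_of_char {y : SW ι} {R : Subgroup (SW ι)}
    (hR : IsMax2 R (Subgroup.centralizer {y})) (hyR : y ∈ R) (hcc : cc ∈ R) (hyy : y * y = 1)
    (χ : SW ι →* ℤˣ) (hχ : χ y = -1)
    (hbig : ∃ Q : Subgroup (SW ι), IsPGroup 2 Q ∧ Nat.card R < Nat.card Q)
    (hbound : ∀ x, InCtr R x → x * x = 1 → x ≠ cc → D.Rel x cc →
      IsMax2 R (Subgroup.centralizer {x}))
    (hcore : ∀ x, InCtr R x → x * x = 1 → x ≠ cc → D.Rel x cc →
      ∀ N : Subgroup (SW ι), N ≤ Subgroup.centralizer {x} →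
      (∀ c ∈ Subgroup.centralizer ({x} : Set (SW ι)), ∀ n ∈ N, c * n * c⁻¹ ∈ N) →
      Odd (Nat.card N) → N = ⊥) :
    ∃ x, InCtr R x ∧ x * x = 1 ∧ x ≠ cc ∧ D.Rel x cc ∧ Nonempty (Swap D.Rel x) := by
  classical
  obtain ⟨P, hP, hPR⟩ := D.exists_two_lift hR.2.1
  obtain ⟨a, haP, hay, haa⟩ := D.exists_mem_lift hP hPR hyR hyy
  have htP := D.mem_tH hP hPR hcc
  have hcomm : ∀ u ∈ P, ∀ v ∈ P, Commute (D.f u) (D.f v) → Commute (u : G) (v : G) := by
    intro u hu v hv h
    have h2 := D.eq_one_of_two hP (mul_mem (mul_mem hu hv) (inv_mem (mul_mem hv hu)))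
      (by rw [map_mul, map_mul, map_inv, map_mul, h.eq, mul_inv_cancel])
    exact congrArg Subtype.val (mul_inv_eq_one.mp h2)
  have hPa : D.up P ≤ Subgroup.centralizer {(a : G)} := by
    rintro _ ⟨q, hq, rfl⟩
    rw [Subgroup.mem_centralizer_singleton_iff]
    refine (hcomm q hq a haP ?_).eq
    rw [hay]
    exact Subgroup.mem_centralizer_singleton_iff.mp (hR.1 (hPR ▸ ⟨q, hq, rfl⟩))
  -- every conjugate of `t` central in `P` other than `t` is described by an element of `R`
  have hdescr : ∀ u : G, u ∈ D.up P → (∀ v ∈ D.up P, Commute v u) → IsConj D.t u → u ≠ D.t →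
      ∃ b ∈ P, (b : G) = u ∧ b * b = 1 ∧ InCtr R (D.f b) ∧ D.f b * D.f b = 1 ∧ D.f b ≠ cc ∧
        D.Rel (D.f b) cc := by
    intro u hu hcu hconj hne
    obtain ⟨b, hb, rfl⟩ := hu
    obtain ⟨w, hw⟩ := isConj_iff.mp hconj
    have hbb : b * b = 1 := by
      apply Subtype.ext
      simp only [Subgroup.coe_subtype] at hw
      rw [Subgroup.coe_mul, ← hw, Subgroup.coe_one,
        show w * D.t * w⁻¹ * (w * D.t * w⁻¹) = w * (D.t * D.t) * w⁻¹ by group, D.sq_t]
      group
    refine ⟨b, hb, rfl, hbb, ⟨hPR ▸ ⟨b, hb, rfl⟩, fun r hr => ?_⟩,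
      by rw [← map_mul, hbb, map_one], fun h => hne ?_,
      b, D.tH, hbb, Subtype.ext D.sq_t, rfl, D.f_t, hconj.symm⟩
    · rw [← hPR] at hr
      obtain ⟨q, hq, rfl⟩ := hr
      have h1 : q * b = b * q := Subtype.ext (hcu _ ⟨q, hq, rfl⟩).eq
      show D.f q * D.f b = D.f b * D.f q
      rw [← map_mul, ← map_mul, h1]
    · exact congrArg Subtype.val (D.eq_tH hbb h)
  have htc : ∀ v ∈ D.up P, Commute v D.t := by
    rintro _ ⟨q, -, rfl⟩
    exact Subgroup.mem_centralizer_singleton_iff.mp q.2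
  -- first conjugate of `t`
  obtain ⟨u, hu, hcu, hconj, hne⟩ : ∃ u : G, u ∈ D.up P ∧ (∀ v ∈ D.up P, Commute v u) ∧
      IsConj D.t u ∧ u ≠ D.t := by
    obtain ⟨Q, hPQ, hQ⟩ := exists_max2 (Subgroup.centralizer {(a : G)}) (D.up P) hPa (hP.map _)
    by_cases hlt : Nat.card (D.up P) < Nat.card Q
    · obtain ⟨g, hgQ, hgP, -, hgn⟩ := exists_normalizer_step hPQ hQ.2.1 hlt
      have hgH := D.not_comm hR hay hP hPR hQ.2.1 hPQ hQ.1 hgQ hgP
      have hsurj : ∀ v ∈ D.up P, ∃ w ∈ D.up P, g * w * g⁻¹ = v := by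
        intro v hv
        have hb : Function.Bijective (fun w : D.up P => (⟨g * w * g⁻¹, hgn _ w.2⟩ : D.up P)) :=
          Finite.injective_iff_bijective.mp fun p q hpq => Subtype.ext
            (mul_left_cancel (mul_right_cancel (congrArg Subtype.val hpq)))
        obtain ⟨w, hw⟩ := hb.2 ⟨v, hv⟩
        exact ⟨w, w.2, congrArg Subtype.val hw⟩
      refine ⟨g * D.t * g⁻¹, hgn _ ⟨D.tH, htP, rfl⟩, fun v hv => ?_, isConj_iff.mpr ⟨g, rfl⟩,
        fun h => hgH (Subgroup.mem_centralizer_singleton_iff.mpr (mul_inv_eq_iff_eq_mul.mp h))⟩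
      obtain ⟨w, hw, rfl⟩ := hsurj v hv
      exact ((htc w hw).map (MulAut.conj g).toMonoidHom)
    · have hmax : IsMax2 (D.up P) (Subgroup.centralizer {(a : G)}) :=
        ⟨hPa, hP.map _, fun T hT hTp => (hQ.2.2 T hT hTp).trans (not_lt.mp hlt)⟩
      obtain ⟨S, hS⟩ := D.sylow
      obtain ⟨g, hg, hφ, hext⟩ := exists_extremal_conj D.no_two S
        ((χ.comp D.f).comp (Subgroup.inclusion hS)) (a : G)
        (congrArg Subtype.val haa)
      set z := g⁻¹ * (a : G) * g with hz
      let S0 : Subgroup G := (S : Subgroup G) ⊓ Subgroup.centralizer {z}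
      have hmap : IsMax2 (S0.map (MulAut.conj g).toMonoidHom)
          (Subgroup.centralizer {(a : G)}) := by
        refine ⟨?_, (S.isPGroup'.to_le inf_le_left).map _, fun T hT hTp => ?_⟩
        · rintro _ ⟨v, hv, rfl⟩
          show g * v * g⁻¹ ∈ _
          rw [Subgroup.mem_centralizer_singleton_iff]
          have e := Subgroup.mem_centralizer_singleton_iff.mp hv.2
          calc g * v * g⁻¹ * (a : G) = g * (v * z) * g⁻¹ := by rw [hz]; group
            _ = g * (z * v) * g⁻¹ := by rw [e]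
            _ = (a : G) * (g * v * g⁻¹) := by rw [hz]; group
        · rw [Subgroup.card_map_of_injective (MulAut.conj g).injective,
            ← Subgroup.card_map_of_injective (f := (MulAut.conj g⁻¹).toMonoidHom)
              (MulAut.conj g⁻¹).injective (K := T)]
          refine hext _ (hTp.map _) ?_
          rintro _ ⟨v, hv, rfl⟩
          show g⁻¹ * v * g⁻¹⁻¹ ∈ _
          rw [Subgroup.mem_centralizer_singleton_iff, inv_inv]
          have e := Subgroup.mem_centralizer_singleton_iff.mp (hT hv)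
          calc g⁻¹ * v * g * (g⁻¹ * (a : G) * g) = g⁻¹ * (v * (a : G)) * g := by group
            _ = g⁻¹ * ((a : G) * v) * g := by rw [e]
            _ = g⁻¹ * (a : G) * g * (g⁻¹ * v * g) := by group
      obtain ⟨k, hk, hkP⟩ := hmap.conj hmax
      have htS0 : D.t ∈ S0 := by
        refine ⟨?_, ?_⟩
        · -- `t` commutes with `S`, hence lies in it
          haveI : Fact (Nat.Prime 2) := ⟨Nat.prime_two⟩
          have hT : IsPGroup 2 (Subgroup.zpowers D.t) := by
            intro q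
            refine ⟨1, Subtype.ext ?_⟩
            obtain ⟨n, hn⟩ := Subgroup.mem_zpowers_iff.mp q.2
            show (q : G) ^ 2 ^ 1 = 1
            rw [← hn, pow_one, ← zpow_natCast, ← zpow_mul, mul_comm, zpow_mul, zpow_natCast,
              pow_two, D.sq_t, one_zpow]
          have hle : Subgroup.zpowers D.t ≤ Subgroup.normalizer ((S : Subgroup G) : Set G) := by
            rw [Subgroup.zpowers_le, Subgroup.mem_normalizer_iff]
            intro x
            constructor
            · intro hx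
              rwa [← (Subgroup.mem_centralizer_singleton_iff.mp (hS hx)), mul_inv_cancel_right]
            · intro hx
              have e := Subgroup.mem_centralizer_singleton_iff.mp (hS hx)
              have ex : x * D.t = D.t * x := by
                calc x * D.t = D.t⁻¹ * (D.t * x * D.t⁻¹ * D.t) * D.t := by group
                  _ = D.t⁻¹ * (D.t * (D.t * x * D.t⁻¹)) * D.t := by rw [e]
                  _ = D.t * x := by group
              rwa [← ex, mul_inv_cancel_right] at hx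
          have h3 := S.isPGroup'.to_sup_of_normal_left' hT hle
          have h4 := S.is_maximal' h3 le_sup_left
          rw [← h4]; exact Subgroup.mem_sup_right (Subgroup.mem_zpowers _)
        · exact Subgroup.mem_centralizer_singleton_iff.mpr
            (Subgroup.mem_centralizer_singleton_iff.mp (hS hg)).symm
      have hmem : ∀ v ∈ S0, k * g * v * (k * g)⁻¹ ∈ D.up P := by
        intro v hv
        rw [← hkP, show k * g * v * (k * g)⁻¹ = k * (g * v * g⁻¹) * k⁻¹ by group]
        exact ⟨_, ⟨v, hv, rfl⟩, rfl⟩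
      refine ⟨k * g * D.t * (k * g)⁻¹, hmem _ htS0, fun v hv => ?_,
        isConj_iff.mpr ⟨k * g, rfl⟩, fun h => ?_⟩
      · rw [← hkP] at hv
        obtain ⟨_, ⟨w, hw, rfl⟩, rfl⟩ := hv
        have e : Commute w D.t := Subgroup.mem_centralizer_singleton_iff.mp (hS hw.1)
        have e2 := e.map (MulAut.conj (k * g)).toMonoidHom
        show Commute (k * (g * w * g⁻¹) * k⁻¹) _
        rw [show k * (g * w * g⁻¹) * k⁻¹ = k * g * w * (k * g)⁻¹ by group]
        exact e2
      · have hkH : k * g ∈ D.H :=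
          Subgroup.mem_centralizer_singleton_iff.mpr (mul_inv_eq_iff_eq_mul.mp h)
        have he : (⟨k * g, hkH⟩ : D.H) * ⟨z, hS hg⟩ * (⟨k * g, hkH⟩ : D.H)⁻¹ = a := by
          apply Subtype.ext
          simp only [Subgroup.coe_mul, InvMemClass.coe_inv, hz]
          calc k * g * (g⁻¹ * (a : G) * g) * (k * g)⁻¹ = k * (a : G) * k⁻¹ := by group
            _ = (a : G) * k * k⁻¹ := by rw [Subgroup.mem_centralizer_singleton_iff.mp hk]
            _ = a := by group
        have h5 := congrArg (fun q => χ (D.f q)) he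
        simp only [map_mul, map_inv] at h5
        rw [mul_comm (χ (D.f _)) (χ (D.f ⟨z, hS hg⟩)), mul_inv_cancel_right, hay, hχ] at h5
        have h6 : χ (D.f ⟨z, hS hg⟩) = 1 := hφ
        rw [h6] at h5
        exact absurd h5 (by decide)
  obtain ⟨b, hbP, hbu, hbb, hbc, hbx, hbne, hbrel⟩ := hdescr u hu hcu hconj hne
  subst hbu
  have hxm := hbound _ hbc hbx hbne hbrel
  have hPb : D.up P ≤ Subgroup.centralizer {(b : G)} := fun v hv =>
    Subgroup.mem_centralizer_singleton_iff.mpr (hcu v hv).eq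
  obtain ⟨Q, hPQ, hQ⟩ := exists_max2 (Subgroup.centralizer {(b : G)}) (D.up P) hPb (hP.map _)
  obtain ⟨w, hw⟩ := isConj_iff.mp hconj
  have hlt : Nat.card (D.up P) < Nat.card Q := by
    obtain ⟨Q1, hQ1, hlt1⟩ := hbig
    obtain ⟨P1, hP1, hPQ1⟩ := D.exists_two_lift hQ1
    rw [D.card_up hP hPR]
    refine hlt1.trans_le ?_
    rw [← D.card_up hP1 hPQ1, ← Subgroup.card_map_of_injective
      (f := (MulAut.conj w).toMonoidHom) (MulAut.conj w).injective (K := D.up P1)]
    refine hQ.2.2 _ ?_ ((hP1.map _).map _)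
    rintro _ ⟨_, ⟨q, -, rfl⟩, rfl⟩
    show w * (q : G) * w⁻¹ ∈ _
    rw [Subgroup.mem_centralizer_singleton_iff, ← hw]
    have e := Subgroup.mem_centralizer_singleton_iff.mp q.2
    calc w * (q : G) * w⁻¹ * (w * D.t * w⁻¹) = w * ((q : G) * D.t) * w⁻¹ := by group
      _ = w * (D.t * (q : G)) * w⁻¹ := by rw [e]
      _ = w * D.t * w⁻¹ * (w * (q : G) * w⁻¹) := by group
  obtain ⟨g, hgQ, hgP, hgg, hgn⟩ := exists_normalizer_step hPQ hQ.2.1 hlt
  have hgH := D.not_comm hxm rfl hP hPR hQ.2.1 hPQ hQ.1 hgQ hgP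
  have hgg' : g * (g * D.t * g⁻¹) * g⁻¹ = D.t := by
    have e := (htc _ hgg).eq
    calc g * (g * D.t * g⁻¹) * g⁻¹ = g * g * D.t * (g * g)⁻¹ := by group
      _ = D.t * (g * g) * (g * g)⁻¹ := by rw [e]
      _ = D.t := by group
  have hcu' : ∀ v ∈ D.up P, Commute v (g * D.t * g⁻¹) := by
    intro v hv
    have hv'' : g * (g⁻¹ * v * g) * g⁻¹ = v := by group
    have hmem : g⁻¹ * v * g ∈ D.up P := by
      have h7 := hgn _ (mul_mem (mul_mem (inv_mem hgg) hv) hgg)
      rwa [show g * ((g * g)⁻¹ * v * (g * g)) * g⁻¹ = g⁻¹ * v * g by group] at h7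
    have e3 := (htc _ hmem).map (MulAut.conj g).toMonoidHom
    simp only [MulEquiv.coe_toMonoidHom, MulAut.conj_apply, hv''] at e3
    exact e3
  obtain ⟨d, hdP, hdu, hdd, hdc, hdx, hdne, hdrel⟩ := hdescr (g * D.t * g⁻¹)
    (hgn _ ⟨D.tH, htP, rfl⟩) hcu' (isConj_iff.mpr ⟨g, rfl⟩)
    (fun h => hgH (Subgroup.mem_centralizer_singleton_iff.mpr (mul_inv_eq_iff_eq_mul.mp h)))
  exact ⟨_, hdc, hdx, hdne, hdrel,
    D.exists_swap hdd hdu.symm (by rw [hdu]; exact hgg') (hcore _ hdc hdx hdne hdrel)⟩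

end Setup

end Cfsg.Agent.Kondo
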