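import Mathlib.GroupTheory.PGroup
import Mathlib.GroupTheory.Sylow
import Mathlib.GroupTheory.Subgroup.Centralizer
import Mathlib.GroupTheory.Perm.Sign
import Mathlib.Data.ZMod.Basic
import Mathlib.Algebra.BigOperators.Ring.Finset

/-!
# The signed permutation group `2 ≀ Sym ι`
-/

set_option autoImplicit false
set_option linter.style.haveILetI false

namespace Cfsg.Agent.Kondo

/-- Elements of `2 ≀ Sym ι`. -/
@[ext]
structure SW (ι : Type) where
  /-- the sign vector -/
  e : ι → ZMod 2
  /-- the permutation -/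
  p : Equiv.Perm ι

theorem z2_cases (x : ZMod 2) : x = 0 ∨ x = 1 := by revert x; decide

theorem z2_add_self (x : ZMod 2) : x + x = 0 := by revert x; decide

theorem z2_add_eq_zero {x y : ZMod 2} (h : x + y = 0) : x = y := by revert x y; decide

namespace SW

variable {ι : Type}

instance : Mul (SW ι) := ⟨fun a b => ⟨fun i => a.e i + b.e (a.p⁻¹ i), a.p * b.p⟩⟩
instance : One (SW ι) := ⟨⟨0, 1⟩⟩
instance : Inv (SW ι) := ⟨fun a => ⟨fun i => a.e (a.p i), a.p⁻¹⟩⟩

@[simp] theorem mul_p (a b : SW ι) : (a * b).p = a.p * b.p := rfl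
@[simp] theorem mul_e (a b : SW ι) (i : ι) : (a * b).e i = a.e i + b.e (a.p⁻¹ i) := rfl
@[simp] theorem one_p : (1 : SW ι).p = 1 := rfl
@[simp] theorem one_e (i : ι) : (1 : SW ι).e i = 0 := rfl
@[simp] theorem inv_p (a : SW ι) : a⁻¹.p = a.p⁻¹ := rfl
@[simp] theorem inv_e (a : SW ι) (i : ι) : a⁻¹.e i = a.e (a.p i) := rfl

instance : Group (SW ι) where
  mul_assoc a b c := by
    ext i
    · simp [mul_inv_rev, add_assoc]
    · simp
  one_mul a := by ext i <;> simp
  mul_one a := by ext i <;> simp
  inv_mul_cancel a := by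
    ext i
    · simp [z2_add_self]
    · simp

/-- The underlying pair. -/
def equivProd : SW ι ≃ (ι → ZMod 2) × Equiv.Perm ι :=
  ⟨fun a => (a.e, a.p), fun x => ⟨x.1, x.2⟩, fun _ => rfl, fun _ => rfl⟩

instance [Finite ι] : Finite (SW ι) := Finite.of_equiv _ equivProd.symm

/-- The element of the base with vector `v`. -/
def base (v : ι → ZMod 2) : SW ι := ⟨v, 1⟩

/-- The permutation element. -/
def perm (π : Equiv.Perm ι) : SW ι := ⟨0, π⟩

@[simp] theorem base_e (v : ι → ZMod 2) : (base v).e = v := rfl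
@[simp] theorem base_p (v : ι → ZMod 2) : (base v).p = 1 := rfl
@[simp] theorem perm_e (π : Equiv.Perm ι) : (perm π).e = 0 := rfl
@[simp] theorem perm_p (π : Equiv.Perm ι) : (perm π).p = π := rfl

/-- The central involution. -/
def cc : SW ι := base 1

@[simp] theorem cc_p : (cc : SW ι).p = 1 := rfl
@[simp] theorem cc_e (i : ι) : (cc : SW ι).e i = 1 := rfl

theorem eq_base {a : SW ι} (h : a.p = 1) : a = base a.e := by ext i <;> simp [h]

theorem base_mul (v w : ι → ZMod 2) : base v * base w = base (v + w) := by ext i <;> simp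

theorem base_mul_self (v : ι → ZMod 2) : base v * base v = (1 : SW ι) := by
  ext i <;> simp [z2_add_self]

theorem base_inj {v w : ι → ZMod 2} (h : base v = base w) : v = w := congrArg SW.e h

theorem base_zero : base (0 : ι → ZMod 2) = (1 : SW ι) := rfl

theorem cc_comm (a : SW ι) : Commute (cc : SW ι) a := by
  ext i <;> simp [add_comm]

theorem commute_base_iff {a : SW ι} {v : ι → ZMod 2} :
    Commute a (base v) ↔ ∀ i, v (a.p i) = v i := by
  constructor
  · intro h i
    have h1 := congrArg (fun x : SW ι => x.e (a.p i)) h.eq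
    simp only [mul_e, base_e, base_p, Equiv.Perm.inv_def, Equiv.symm_apply_apply, inv_one,
      Equiv.Perm.one_apply] at h1
    have h2 : a.e (a.p i) + v i = a.e (a.p i) + v (a.p i) := by
      rw [h1]
      exact add_comm _ _
    exact (add_left_cancel h2).symm
  · intro h
    show a * base v = base v * a
    ext i
    · have h1 := h (a.p⁻¹ i)
      rw [Equiv.Perm.inv_def, Equiv.apply_symm_apply] at h1
      simp [Equiv.Perm.inv_def, ← h1, add_comm]
    · simp

theorem conj_base (a : SW ι) (v : ι → ZMod 2) :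
    a * base v * a⁻¹ = base (fun i => v (a.p⁻¹ i)) := by
  ext i
  · simp only [mul_e, mul_p, base_p, base_e, mul_one, inv_e, Equiv.Perm.inv_def,
      Equiv.apply_symm_apply]
    rw [add_right_comm, z2_add_self, zero_add]
  · simp

theorem mul_self_eq_one_iff {a : SW ι} :
    a * a = 1 ↔ a.p * a.p = 1 ∧ ∀ i, a.e (a.p i) = a.e i := by
  constructor
  · intro h
    have hp : a.p * a.p = 1 := congrArg SW.p h
    refine ⟨hp, fun i => ?_⟩
    have h1 := congrArg (fun x : SW ι => x.e i) h
    have hi : a.p⁻¹ = a.p := inv_eq_of_mul_eq_one_right hp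
    simp only [mul_e, one_e, hi] at h1
    exact (z2_add_eq_zero h1).symm
  · rintro ⟨hp, he⟩
    have hi : a.p⁻¹ = a.p := inv_eq_of_mul_eq_one_right hp
    ext i
    · simp [hi, he i, z2_add_self]
    · simp [hp]

variable [Fintype ι]

/-- The parity of the sign vector. -/
def par (a : SW ι) : ZMod 2 := ∑ i, a.e i

theorem par_mul (a b : SW ι) : par (a * b) = par a + par b := by
  simp only [par, mul_e, Finset.sum_add_distrib]
  congr 1
  exact Fintype.sum_equiv a.p⁻¹ _ _ (fun i => rfl)

@[simp] theorem par_one : par (1 : SW ι) = 0 := by simp [par]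

theorem par_base (v : ι → ZMod 2) : par (base v) = ∑ i, v i := rfl

theorem par_inv (a : SW ι) : par a⁻¹ = par a := by
  have h := par_mul a a⁻¹
  rw [mul_inv_cancel, par_one] at h
  exact (z2_add_eq_zero h.symm).symm

theorem par_mul_self (a : SW ι) : par (a * a) = 0 := by rw [par_mul, z2_add_self]

theorem par_conj (g a : SW ι) : par (g * a * g⁻¹) = par a := by
  rw [par_mul, par_mul, par_inv, add_right_comm, z2_add_self, zero_add]

/-- The parity character. -/
def parHom : SW ι →* ℤˣ :=
  MonoidHom.mk' (fun a => if par a = 0 then 1 else -1) fun a b => by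
    rcases z2_cases (par a) with ha | ha <;> rcases z2_cases (par b) with hb | hb <;>
      simp [par_mul, ha, hb, show (1 : ZMod 2) + 1 = 0 from by decide]

/-- The sign of the permutation part. -/
def signHom [DecidableEq ι] : SW ι →* ℤˣ :=
  MonoidHom.mk' (fun a => Equiv.Perm.sign a.p) fun a b => by simp

omit [Fintype ι] in
/-- A base element supported on a set that is even on each class has a square root preserving
the classes. -/
theorem exists_root [DecidableEq ι] {κ : Type} [DecidableEq κ] (cls : ι → κ) (n : ℕ) :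
    ∀ V : Finset ι, V.card = n → (∀ k, Even (V.filter fun i => cls i = k).card) →
      ∃ d : SW ι, (∀ i, cls (d.p i) = cls i) ∧ (∀ i ∉ V, d.p i = i ∧ d.e i = 0) ∧
        d.p * d.p = 1 ∧ (∀ i ∈ V, d.p i ≠ i) ∧
        d * d = base (fun i => if i ∈ V then 1 else 0) := by
  induction n using Nat.strong_induction_on with
  | _ n ih =>
  intro V hV hev
  rcases V.eq_empty_or_nonempty with rfl | ⟨i, hi⟩
  · refine ⟨1, fun _ => rfl, fun _ _ => ⟨rfl, rfl⟩, by simp, by simp, ?_⟩
    ext j <;> simp
  obtain ⟨q, hq, hqi⟩ : ∃ q ∈ V.filter (fun j => cls j = cls i), q ≠ i := by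
    refine Finset.exists_mem_ne ?_ i
    have h1 : 0 < (V.filter (fun j => cls j = cls i)).card :=
      Finset.card_pos.mpr ⟨i, Finset.mem_filter.mpr ⟨hi, rfl⟩⟩
    obtain ⟨k, hk⟩ := hev (cls i)
    omega
  obtain ⟨hqV, hqc⟩ := Finset.mem_filter.mp hq
  set V' := (V.erase i).erase q with hV'
  have hcard : V'.card = n - 2 := by
    rw [hV', Finset.card_erase_of_mem (Finset.mem_erase.mpr ⟨hqi, hqV⟩),
      Finset.card_erase_of_mem hi]
    omega
  have hmem : ∀ j, j ∈ V' ↔ j ≠ q ∧ j ≠ i ∧ j ∈ V := by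
    intro j; simp [hV']
  have hev' : ∀ k, Even (V'.filter fun j => cls j = k).card := by
    intro k
    rw [hV', Finset.filter_erase, Finset.filter_erase]
    by_cases hk : cls i = k
    · have h1 : i ∈ V.filter fun j => cls j = k := Finset.mem_filter.mpr ⟨hi, hk⟩
      have h2 : q ∈ (V.filter fun j => cls j = k).erase i :=
        Finset.mem_erase.mpr ⟨hqi, Finset.mem_filter.mpr ⟨hqV, hqc.trans hk⟩⟩
      rw [Finset.card_erase_of_mem h2, Finset.card_erase_of_mem h1]
      obtain ⟨m, hm⟩ := hev k
      exact ⟨m - 1, by omega⟩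
    · rw [Finset.erase_eq_of_notMem, Finset.erase_eq_of_notMem]
      · exact hev k
      · simp [hk]
      · simp [hqc, hk]
  have hn : V.card ≥ 1 := Finset.card_pos.mpr ⟨i, hi⟩
  obtain ⟨d, hd1, hd2, hd3, hd4, hd5⟩ := ih (n - 2) (by omega) V' hcard hev'
  have hdi : d.p i = i ∧ d.e i = 0 := hd2 i (by simp [hmem])
  have hdq : d.p q = q ∧ d.e q = 0 := hd2 q (by simp [hmem])
  refine ⟨⟨fun j => d.e j + if j = i then 1 else 0, d.p * Equiv.swap i q⟩, ?_, ?_, ?_, ?_, ?_⟩
  · intro j
    simp only [Equiv.Perm.mul_apply, hd1]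
    rcases eq_or_ne j i with rfl | h1
    · rw [Equiv.swap_apply_left, hqc]
    rcases eq_or_ne j q with rfl | h2
    · rw [Equiv.swap_apply_right, hqc]
    rw [Equiv.swap_apply_of_ne_of_ne h1 h2]
  · intro j hj
    have h1 : j ≠ i := fun h => hj (h ▸ hi)
    have h2 : j ≠ q := fun h => hj (h ▸ hqV)
    have h3 := hd2 j (by simp [hmem, hj])
    simp [Equiv.swap_apply_of_ne_of_ne h1 h2, h1, h3.1, h3.2]
  all_goals
    have hcomm : Equiv.swap i q * d.p = d.p * Equiv.swap i q := by
      apply Equiv.ext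
      intro j
      simp only [Equiv.Perm.mul_apply]
      rcases eq_or_ne j i with rfl | h1
      · rw [hdi.1, Equiv.swap_apply_left, hdq.1]
      rcases eq_or_ne j q with rfl | h2
      · rw [hdq.1, Equiv.swap_apply_right, hdi.1]
      have h3 : d.p j ≠ i := fun h => h1 (d.p.injective (h.trans hdi.1.symm))
      have h4 : d.p j ≠ q := fun h => h2 (d.p.injective (h.trans hdq.1.symm))
      rw [Equiv.swap_apply_of_ne_of_ne h3 h4, Equiv.swap_apply_of_ne_of_ne h1 h2]
  · calc d.p * Equiv.swap i q * (d.p * Equiv.swap i q)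
        = d.p * (Equiv.swap i q * d.p) * Equiv.swap i q := by simp only [mul_assoc]
      _ = d.p * (d.p * Equiv.swap i q) * Equiv.swap i q := by rw [hcomm]
      _ = (d.p * d.p) * (Equiv.swap i q * Equiv.swap i q) := by simp only [mul_assoc]
      _ = 1 := by rw [hd3, Equiv.swap_mul_self, one_mul]
  · intro j hj h
    simp only [Equiv.Perm.mul_apply] at h
    rcases eq_or_ne j i with rfl | h1
    · rw [Equiv.swap_apply_left, hdq.1] at h; exact hqi h
    rcases eq_or_ne j q with rfl | h2
    · rw [Equiv.swap_apply_right, hdi.1] at h; exact hqi h.symm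
    rw [Equiv.swap_apply_of_ne_of_ne h1 h2] at h
    exact hd4 j ((hmem j).mpr ⟨h2, h1, hj⟩) h
  · ext j
    · have h0 := congrArg (fun x : SW ι => x.e j) hd5
      simp only [mul_e, base_e] at h0
      simp only [mul_e, base_e, mul_inv_rev, Equiv.swap_inv, Equiv.Perm.mul_apply]
      have hinv : d.p⁻¹ = d.p := inv_eq_of_mul_eq_one_right hd3
      rw [hinv] at h0 ⊢
      rcases eq_or_ne j i with rfl | h1
      · simp [hdi.1, hdi.2, hdq.2, hqi, hi]
      rcases eq_or_ne j q with rfl | h2
      · simp [hdq.1, hdq.2, hdi.2, hqi, hqV]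
      have h3 : d.p j ≠ i := fun h => h1 (d.p.injective (h.trans hdi.1.symm))
      have h4 : d.p j ≠ q := fun h => h2 (d.p.injective (h.trans hdq.1.symm))
      simp only [hmem, h1, h2, ne_eq, not_false_iff, true_and] at h0
      simp [Equiv.swap_apply_of_ne_of_ne h3 h4, h1, h3, h0]
    · simp only [mul_p, base_p]
      rw [show d.p * Equiv.swap i q * (d.p * Equiv.swap i q)
          = d.p * (Equiv.swap i q * d.p) * Equiv.swap i q from by simp only [mul_assoc], hcomm]
      rw [show d.p * (d.p * Equiv.swap i q) * Equiv.swap i q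
          = (d.p * d.p) * (Equiv.swap i q * Equiv.swap i q) from by simp only [mul_assoc],
        hd3, Equiv.swap_mul_self, one_mul]

end SW

end Cfsg.Agent.Kondo
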